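import Groth.Agent.Lib.InjMod.Local
import Groth.Agent.Lib.DMV.Counit
import Groth.Agent.Lib.ModM1.Exact
import Groth.Agent.Lib.CohFound.ModulesInst

/-!
# Injective modules and open subschemes
-/

set_option autoImplicit false
set_option backward.isDefEq.respectTransparency.types false
set_option linter.style.haveILetI false
set_option backward.isDefEq.respectTransparency false

universe u

open CategoryTheory CategoryTheory.Limits AlgebraicGeometry Opposite TopologicalSpace

namespace Groth.Agent.InjMod

variable {X : Scheme.{u}}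

/-- Restriction to an open subscheme preserves injectives. -/
theorem injective_restrict (U : X.Opens) (I : X.Modules) [Injective I] :
    Injective ((Scheme.Modules.restrictFunctor U.ι).obj I) :=
  (CxOX.extZeroAdj U.ι).map_injective I inferInstance

/-- A morphism is an isomorphism if its restrictions to an open cover are. -/
theorem isIso_of_restrict {A B : X.Modules} (i : A ⟶ B)
    (h : ∀ x : X, ∃ U : X.Opens, x ∈ U ∧ IsIso ((Scheme.Modules.restrictFunctor U.ι).map i)) : IsIso i := by
  refine (M1.isIso_iff_stalk i).2 fun x => ?_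
  obtain ⟨U, hxU, hiso⟩ := h x
  haveI : IsIso ((Scheme.Modules.toPresheaf X ⋙ TopCat.Presheaf.stalkFunctor AddCommGrpCat.{u} x).map i) := by
    have e := (Scheme.Modules.restrictStalkNatIso U.ι ⟨x, hxU⟩).symm
    exact (NatIso.isIso_map_iff e i).2 (Functor.map_isIso
      (Scheme.Modules.toPresheaf (U : Scheme.{u}) ⋙ TopCat.Presheaf.stalkFunctor AddCommGrpCat.{u} ⟨x, hxU⟩) _)
  exact ConcreteCategory.bijective_of_isIso
    ((Scheme.Modules.toPresheaf X ⋙ TopCat.Presheaf.stalkFunctor AddCommGrpCat.{u} x).map i)

/-- Injectivity is local. -/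
theorem injective_of_local (F : X.Modules)
    (hF : ∀ x : X, ∃ U : X.Opens, x ∈ U ∧ Injective ((Scheme.Modules.restrictFunctor U.ι).obj F)) :
    Injective F := by
  refine injective_of_forall_extend.{u} F fun {A B} i _ g hi => ?_
  obtain ⟨x, hx⟩ : ∃ x : X, ∀ U : X.Opens, x ∈ U → ¬ IsIso ((Scheme.Modules.restrictFunctor U.ι).map i) := by
    by_contra hne
    push Not at hne
    exact hi (isIso_of_restrict i hne)
  obtain ⟨U, hxU, hU⟩ := hF x
  exact exists_extend_of_localization (CxOX.extZeroAdj U.ι) (fun M => DMV.mono_counit U M) F i g (hx U hxU)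

end Groth.Agent.InjMod
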