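import Groth.Agent.Lib.InjMod.Step
import Groth.Agent.Lib.InjMod.Scheme
import Groth.Agent.Lib.RHom.Support
import Groth.Agent.Lib.VarDim.Fibre
import Mathlib.CategoryTheory.Adjunction.Triple

/-!
# Quasi-coherent modules with injective stalks are injective
-/

set_option autoImplicit false
set_option linter.style.haveILetI false
set_option backward.isDefEq.respectTransparency false
set_option backward.isDefEq.respectTransparency.types false

universe u

open CategoryTheory CategoryTheory.Limits AlgebraicGeometry TopologicalSpace Opposite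

namespace Groth.Agent.InjMod

open Groth.Agent M1 CurveCoh17

variable {X : Scheme.{u}}

theorem stalkLin_comp_apply {A B C : X.Modules} (f : A ⟶ B) (g : B ⟶ C) (x : X) (a : A.presheaf.stalk x) :
    stalkLin (f ≫ g) x a = stalkLin g x (stalkLin f x a) :=
  ConcreteCategory.congr_hom ((M1.stalkAb x).map_comp f g) a

theorem isIso_unit_extZero (U : X.Opens) : IsIso (CxOX.extZeroAdj U.ι).unit :=
  (Adjunction.Triple.mk (CxOX.extZeroAdj U.ι) (Scheme.Modules.restrictAdjunction U.ι)).isIso_unit_iff_isIso_counit.2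
    inferInstance

/-- The canonical generator of `j_! O_U`. -/
noncomputable def gen (U : X.Opens) : Γ((CxOX.extZero U.ι).obj (Coh.structureModule (U : Scheme.{u})), U) :=
  mres _ (M1.image_ι_top U).ge
    (((CxOX.extZeroAdj U.ι).unit.app (Coh.structureModule (U : Scheme.{u}))).app ⊤ (M1.one ⊤))

/-- Maps out of `j_! O_U` with prescribed value at the generator. -/
theorem exists_hom_gen (U : X.Opens) {M : X.Modules} (m : Γ(M, U)) :
    ∃ k : (CxOX.extZero U.ι).obj (Coh.structureModule (U : Scheme.{u})) ⟶ M, k.app U (gen U) = m := by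
  let m' : Γ((Scheme.Modules.restrictFunctor U.ι).obj M, ⊤) := mres M (M1.image_ι_top U).le m
  refine ⟨((CxOX.extZeroAdj U.ι).homEquiv _ _).symm (M1.secHom m'), ?_⟩
  have h := Equiv.apply_symm_apply ((CxOX.extZeroAdj U.ι).homEquiv (Coh.structureModule (U : Scheme.{u})) M)
    (M1.secHom m')
  rw [Adjunction.homEquiv_unit] at h
  have h1 := congrArg (fun f => Scheme.Modules.Hom.app f ⊤ (M1.one ⊤)) h
  simp only [M1.secHom_app_one] at h1
  rw [gen]
  refine (NatTrans.naturality_apply (Scheme.Modules.Hom.mapPresheaf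
    (((CxOX.extZeroAdj U.ι).homEquiv _ _).symm (M1.secHom m'))) (homOfLE (M1.image_ι_top U).ge).op _).trans ?_
  refine (congrArg (mres M (M1.image_ι_top U).ge) h1).trans ?_
  exact (mres_mres M _ _ m).trans (mres_id M _ m)

/-- The generator generates the stalks over `U`. -/
theorem exists_smul_gen (U : X.Opens) {y : X} (hy : y ∈ U)
    (β : ((CxOX.extZero U.ι).obj (Coh.structureModule (U : Scheme.{u}))).presheaf.stalk y) :
    ∃ c : X.presheaf.stalk y, β = c • ((CxOX.extZero U.ι).obj (Coh.structureModule (U : Scheme.{u}))).presheaf.germ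
      U y hy (gen U) := by
  let L := (CxOX.extZero U.ι).obj (Coh.structureModule (U : Scheme.{u}))
  obtain ⟨V, hyV, σ, rfl⟩ := L.presheaf.exists_germ_eq β
  let V' : (U : Scheme.{u}).Opens := U.ι ⁻¹ᵁ V
  have hyV' : y ∈ U.ι ''ᵁ V' := ⟨⟨y, hy⟩, hyV, rfl⟩
  have hV' : U.ι ''ᵁ V' ≤ V := by rintro _ ⟨z, hz, rfl⟩; exact hz
  haveI := isIso_unit_extZero U
  let η := (CxOX.extZeroAdj U.ι).unit.app (Coh.structureModule (U : Scheme.{u}))
  obtain ⟨c, hc⟩ := ((ConcreteCategory.bijective_of_isIso (η.app V')).2 : Function.Surjective _)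
    (show Γ((Scheme.Modules.restrictFunctor U.ι).obj L, V') from mres L hV' σ)
  let c' : Γ(X, U.ι ''ᵁ V') := c
  refine ⟨X.presheaf.germ _ y hyV' c', ?_⟩
  have hle : U.ι ''ᵁ V' ≤ U.ι ''ᵁ ⊤ := Scheme.Hom.image_mono U.ι le_top
  have hone : η.app V' (mres (Coh.structureModule (U : Scheme.{u})) le_top (M1.one ⊤)) =
      mres ((Scheme.Modules.restrictFunctor U.ι).obj L) (le_top : V' ≤ ⊤) (η.app ⊤ (M1.one ⊤)) :=
    NatTrans.naturality_apply η.mapPresheaf (homOfLE (le_top : V' ≤ ⊤)).op (M1.one ⊤)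
  have hc1 : (show Γ(Coh.structureModule (U : Scheme.{u}), V') from c) =
      (show Γ((U : Scheme.{u}), V') from c) • mres (Coh.structureModule (U : Scheme.{u})) le_top (M1.one ⊤) := by
    rw [M1.mres_one]
    exact (mul_one (show Γ((U : Scheme.{u}), V') from c)).symm
  have h2 := hc
  rw [hc1, Scheme.Modules.Hom.app_smul, hone] at h2
  have h3 : mres L hV' σ = c' • mres L hle (η.app ⊤ (M1.one ⊤)) :=
    h2.symm.trans (M1.restrict_ι_smul L c' _)
  have h4 := congrArg (L.presheaf.germ _ y hyV') h3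
  rw [M1.germ_smul, germ_mres, germ_mres] at h4
  rw [h4, gen, germ_mres]

/-- The generator vanishes outside. -/
theorem stalk_gen_eq_zero (U : X.Opens) {y : X} (hy : y ∉ U)
    (β : ((CxOX.extZero U.ι).obj (Coh.structureModule (U : Scheme.{u}))).presheaf.stalk y) : β = 0 := by
  haveI : Subsingleton ((M1.stalkAb y).obj ((CxOX.extZero U.ι).obj (Coh.structureModule (U : Scheme.{u})))) :=
    AddCommGrpCat.subsingleton_of_isZero (RHom.stalkZero_extZero U _ hy)
  exact @Subsingleton.elim ((M1.stalkAb y).obj ((CxOX.extZero U.ι).obj (Coh.structureModule (U : Scheme.{u})))) _ β 0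

/-- A compatible extension along `w : j_! O_U ⟶ B` gives a larger partial morphism. -/
theorem exists_larger_of_hom {A B F : X.Modules} (i : A ⟶ B) [Mono i] (g : A ⟶ F) (U : X.Opens) (s : Γ(B, U))
    {q : X} (hq : q ∈ U) (hbad : ∀ α, stalkLin i q α ≠ (B.presheaf.germ U q hq s : B.presheaf.stalk q))
    (w : (CxOX.extZero U.ι).obj (Coh.structureModule (U : Scheme.{u})) ⟶ B) (hw : w.app U (gen U) = s)
    (k : (CxOX.extZero U.ι).obj (Coh.structureModule (U : Scheme.{u})) ⟶ F)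
    (hcomm : pullback.fst i w ≫ g = pullback.snd i w ≫ k) :
    ∃ (A' : X.Modules) (a : A ⟶ A') (b : A' ⟶ B) (g' : A' ⟶ F),
      Mono b ∧ a ≫ b = i ∧ ¬ IsIso a ∧ a ≫ g' = g := by
  let P := IsPushout.of_hasPushout (pullback.fst i w) (pullback.snd i w)
  refine ⟨pushout (pullback.fst i w) (pullback.snd i w), pushout.inl _ _,
    pushout.desc i w pullback.condition, pushout.desc g k hcomm,
    P.mono_of_isPullback_of_mono (IsPullback.of_hasPullback i w) _ (pushout.inl_desc _ _ _)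
      (pushout.inr_desc _ _ _),
    pushout.inl_desc _ _ _, fun hiso => ?_, pushout.inl_desc _ _ _⟩
  let l := pushout.inr (pullback.fst i w) (pullback.snd i w) ≫ inv (pushout.inl (pullback.fst i w) (pullback.snd i w))
  have hl : l ≫ i = w := by
    simp only [l, Category.assoc]
    rw [show inv (pushout.inl (pullback.fst i w) (pullback.snd i w)) ≫ i =
      pushout.desc i w pullback.condition from (IsIso.inv_comp_eq _).2 (pushout.inl_desc _ _ _).symm]
    exact pushout.inr_desc _ _ _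
  refine hbad (stalkLin l q (((CxOX.extZero U.ι).obj _).presheaf.germ U q hq (gen U))) ?_
  rw [← stalkLin_comp_apply, hl, stalkLin_apply, M1.germ_naturality, hw]


/-- An extension element gives a larger partial morphism. -/
theorem exists_larger {A B F : X.Modules} (i : A ⟶ B) [Mono i] (g : A ⟶ F) (U : X.Opens) (s : Γ(B, U))
    {q : X} (hq : q ∈ U) (hbad : ∀ α, stalkLin i q α ≠ (B.presheaf.germ U q hq s : B.presheaf.stalk q)) (m : Γ(F, U))
    (hm : ∀ (y : X) (hy : y ∈ U) (α : A.presheaf.stalk y) (c : X.presheaf.stalk y),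
      stalkLin i y α = c • (B.presheaf.germ U y hy s : B.presheaf.stalk y) →
      stalkLin g y α = c • (F.presheaf.germ U y hy m : F.presheaf.stalk y)) :
    ∃ (A' : X.Modules) (a : A ⟶ A') (b : A' ⟶ B) (g' : A' ⟶ F),
      Mono b ∧ a ≫ b = i ∧ ¬ IsIso a ∧ a ≫ g' = g := by
  obtain ⟨w, hw⟩ := exists_hom_gen U s
  obtain ⟨k, hk⟩ := exists_hom_gen U m
  have hw' : ∀ (y : X) (hy : y ∈ U), stalkLin w y (((CxOX.extZero U.ι).obj _).presheaf.germ U y hy (gen U)) =
      (B.presheaf.germ U y hy s : B.presheaf.stalk y) := fun y hy => by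
    rw [stalkLin_apply, M1.germ_naturality, hw]
  have hk' : ∀ (y : X) (hy : y ∈ U), stalkLin k y (((CxOX.extZero U.ι).obj _).presheaf.germ U y hy (gen U)) =
      (F.presheaf.germ U y hy m : F.presheaf.stalk y) := fun y hy => by
    rw [stalkLin_apply, M1.germ_naturality, hk]
  have hcomm : pullback.fst i w ≫ g = pullback.snd i w ≫ k := by
    refine Scheme.Modules.hom_ext _ _ fun V => ?_
    ext p
    refine M1.section_ext _ _ fun y hy => ?_
    rw [← M1.germ_naturality, ← M1.germ_naturality, ← stalkLin_apply, ← stalkLin_apply, stalkLin_comp_apply,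
      stalkLin_comp_apply]
    let π := (pullback i w).presheaf.germ V y hy p
    have hsq : stalkLin i y (stalkLin (pullback.fst i w) y π) = stalkLin w y (stalkLin (pullback.snd i w) y π) := by
      rw [← stalkLin_comp_apply, ← stalkLin_comp_apply, pullback.condition]
    by_cases hyU : y ∈ U
    · obtain ⟨c, hc⟩ := exists_smul_gen U hyU (stalkLin (pullback.snd i w) y π)
      rw [hc, map_smul, hw' y hyU] at hsq
      rw [hc, map_smul, hk' y hyU]
      exact hm y hyU _ c hsq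
    · have h0 := stalk_gen_eq_zero U hyU (stalkLin (pullback.snd i w) y π)
      rw [h0, map_zero] at hsq ⊢
      rw [(M1.mono_iff_stalk i).1 ‹_› y (hsq.trans (map_zero _).symm), map_zero]
  exact exists_larger_of_hom i g U s hq hbad w hw k hcomm

/-- A point where a monomorphism is not surjective gives a section with colon ideals of the simplest shape. -/
theorem exists_good_open [IsLocallyNoetherian X] {A B : X.Modules} (i : A ⟶ B) [hmono : Mono i]
    (hi : ¬ IsIso i) :
    ∃ (U : X.Opens) (_ : IsAffineOpen U) (s : Γ(B, U)) (q : X) (hq : q ∈ U),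
      (∀ α, stalkLin i q α ≠ (B.presheaf.germ U q hq s : B.presheaf.stalk q)) ∧
      ∀ (y : X) (hy : y ∈ U), colonAt i s y hy = ⊤ ∨
        ∀ a ∈ colonAt i s y hy, ∀ (z : X) (hz : z ∈ U), a ∈ colonAt i s z hz := by
  classical
  obtain ⟨x, hx⟩ : ∃ x, ¬ Function.Surjective (stalkLin i x) := by
    by_contra hne
    push Not at hne
    exact hi ((M1.isIso_iff_stalk i).2 fun x => ⟨(M1.mono_iff_stalk i).1 hmono x, hne x⟩)
  obtain ⟨b, hb⟩ := not_forall.1 hx
  obtain ⟨W, hxW, s₀, rfl⟩ := B.presheaf.exists_germ_eq b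
  obtain ⟨U₀, hU₀, hxU₀, hU₀W⟩ := exists_isAffineOpen_mem_and_subset hxW
  let s := mres B hU₀W s₀
  haveI : IsNoetherianRing Γ(X, U₀) := IsLocallyNoetherian.component_noetherian ⟨U₀, hU₀⟩
  -- generic points of the support of `s` modulo `A`
  haveI hnoeth : NoetherianSpace (U₀ : Scheme.{u}) := by
    haveI : IsAffine (U₀ : Scheme.{u}) := hU₀
    haveI : CompactSpace (U₀ : Scheme.{u}) := inferInstance
    haveI : IsNoetherian (U₀ : Scheme.{u}) := {}
    infer_instance
  let Z : Set (U₀ : Scheme.{u}) := {y | colonAt i s y.1 y.2 ≠ ⊤}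
  have hopen : IsOpen Zᶜ := by
    refine isOpen_iff_forall_mem_open.2 fun y hy => ?_
    have h1 : (1 : Γ(X, U₀)) ∈ colonAt i s y.1 y.2 := by
      rw [not_ne_iff.1 hy]; exact Submodule.mem_top
    obtain ⟨V, hyV, hVU, σ, hσ⟩ := colonAt_witness i s h1
    exact ⟨U₀.ι ⁻¹ᵁ V, fun z hz hne => hne ((Ideal.eq_top_iff_one _).2 ⟨_, hσ z.1 hz⟩), (U₀.ι ⁻¹ᵁ V).2, hyV⟩
  obtain ⟨G, hG⟩ := VarDim.exists_finite_generic (X := (U₀ : Scheme.{u})) (isOpen_compl_iff.1 hopen)
  have hxZ : (⟨x, hxU₀⟩ : (U₀ : Scheme.{u})) ∈ Z := fun htop => hb (by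
    obtain ⟨α, hα⟩ := (Ideal.eq_top_iff_one _).1 htop
    refine ⟨α, ?_⟩
    rw [hα, map_one, one_smul, germ_mres])
  obtain ⟨g₀, hg₀, -⟩ := (hG _).1 hxZ
  obtain ⟨q, hqG, hmax⟩ := G.exists_max_image (fun a => (G.filter fun a' => a ⤳ a').card) ⟨g₀, hg₀⟩
  have hqmin : ∀ a ∈ G, a ⤳ q → q ⤳ a := by
    intro a ha haq
    by_contra hqa
    refine (hmax a ha).not_gt (Finset.card_lt_card ⟨fun t ht => ?_, fun hsub => hqa ?_⟩)
    · exact Finset.mem_filter.2 ⟨(Finset.mem_filter.1 ht).1, haq.trans (Finset.mem_filter.1 ht).2⟩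
    · exact (Finset.mem_filter.1 (hsub (Finset.mem_filter.2 ⟨ha, specializes_rfl⟩))).2
  have hqZ : q ∈ Z := (hG q).2 ⟨q, hqG, specializes_rfl⟩
  -- an affine neighbourhood of `q` meeting the support only in specialisations of `q`
  let bad := G.filter fun a => ¬ (a ⤳ q)
  have hbadc : IsClosed (⋃ a ∈ bad, closure ({a} : Set (U₀ : Scheme.{u}))) :=
    bad.finite_toSet.isClosed_biUnion fun a _ => isClosed_closure
  let O₁ : X.Opens := U₀.ι ''ᵁ ⟨(⋃ a ∈ bad, closure ({a} : Set (U₀ : Scheme.{u})))ᶜ, hbadc.isOpen_compl⟩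
  have hO₁le : O₁ ≤ U₀ := by rintro _ ⟨z, -, rfl⟩; exact z.2
  have hqO₁ : q.1 ∈ O₁ := ⟨q, fun hmem => by
    obtain ⟨a, ha, haq⟩ := Set.mem_iUnion₂.1 hmem
    exact (Finset.mem_filter.1 ha).2 (specializes_iff_mem_closure.2 haq), rfl⟩
  obtain ⟨U₁, hU₁, hqU₁, hU₁O⟩ := exists_isAffineOpen_mem_and_subset hqO₁
  have hU₁le : U₁ ≤ U₀ := le_trans hU₁O hO₁le
  haveI : IsNoetherianRing Γ(X, U₁) := IsLocallyNoetherian.component_noetherian ⟨U₁, hU₁⟩
  let s₁ := mres B hU₁le s
  obtain ⟨gens, hgens⟩ := (IsNoetherian.noetherian (colonAt i s₁ q.1 hqU₁) : (colonAt i s₁ q.1 hqU₁).FG)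
  have hwit : ∀ a ∈ gens, ∃ (V : X.Opens), q.1 ∈ V ∧ ∀ (z : X) (_ : z ∈ V) (hz₁ : z ∈ U₁),
      a ∈ colonAt i s₁ z hz₁ := fun a ha => by
    obtain ⟨V, hV, hVU, σ, hσ⟩ := colonAt_witness i s₁ (hgens ▸ Ideal.subset_span ha :
      a ∈ colonAt i s₁ q.1 hqU₁)
    exact ⟨V, hV, fun z hzV hz₁ => ⟨_, hσ z hzV⟩⟩
  choose! V hqV hV using hwit
  obtain ⟨f, hfV, hqf⟩ := hU₁.exists_basicOpen_le (V := U₁ ⊓ gens.inf V)
    ⟨q.1, hqU₁, Finset.inf_induction (p := fun O : X.Opens => q.1 ∈ O) trivial (fun _ ha _ hb => ⟨ha, hb⟩) hqV⟩ hqU₁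
  let U := X.basicOpen f
  have hU : IsAffineOpen U := hU₁.basicOpen f
  have hUle : U ≤ U₁ := X.basicOpen_le f
  haveI : IsNoetherianRing Γ(X, U) := IsLocallyNoetherian.component_noetherian ⟨U, hU⟩
  let s₂ := mres B hUle s₁
  have hres : ∀ {z : X} (hz : z ∈ U) (a : Γ(X, U₁)), ores hUle a ∈ colonAt i s₂ z hz ↔
      a ∈ colonAt i s₁ z (hUle hz) := fun hz a => by
    simp only [mem_colonAt, s₂, germ_mres, TopCat.Presheaf.germ_res_apply]
  have hs : ∀ (y : X) (hy : y ∈ U), colonAt i s₂ y hy = ⊤ ∨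
      ∀ a ∈ colonAt i s₂ y hy, ∀ (z : X) (hz : z ∈ U), a ∈ colonAt i s₂ z hz := by
    intro y hy
    by_cases hyZ : (⟨y, hU₁le (hUle hy)⟩ : (U₀ : Scheme.{u})) ∈ Z
    · refine Or.inr fun a ha => ?_
      obtain ⟨b₀, hb₀G, hb₀y⟩ := (hG _).1 hyZ
      have hb₀q : b₀ ⤳ q := by
        by_contra hne
        obtain ⟨z, hz, hzy⟩ := hU₁O (hUle hy)
        refine hz (Set.mem_iUnion₂.2 ⟨b₀, Finset.mem_filter.2 ⟨hb₀G, hne⟩, ?_⟩)
        rw [show z = ⟨y, hU₁le (hUle hy)⟩ from Subtype.ext hzy]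
        exact specializes_iff_mem_closure.1 hb₀y
      have hqy : q.1 ⤳ y := ((hqmin b₀ hb₀G hb₀q).trans hb₀y).map U₀.ι.continuous
      have haq : a ∈ colonAt i s₂ q.1 hqf := by
        obtain ⟨O, hyO, hOU, σ, hσ⟩ := colonAt_witness i s₂ ha
        exact ⟨_, hσ q.1 (hqy.mem_open O.2 hyO)⟩
      haveI := hU₁.isLocalization_basicOpen f
      obtain ⟨⟨a', ⟨_, n, rfl⟩⟩, he⟩ := IsLocalization.surj (Submonoid.powers f) a
      change a * ores hUle (f ^ n) = ores hUle a' at he
      intro z hz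
      have ha' : a' ∈ colonAt i s₁ q.1 (hUle hqf) :=
        (hres hqf a').1 (he ▸ Ideal.mul_mem_right _ _ haq)
      have hspan : a' ∈ colonAt i s₁ z (hUle hz) := by
        have hz' : z ∈ gens.inf V := (hfV hz).2
        rw [show colonAt i s₁ q.1 (hUle hqf) = Submodule.span _ (gens : Set Γ(X, U₁)) from hgens.symm] at ha'
        refine (Submodule.span_le.2 fun c hc => ?_) ha'
        exact hV c hc z ((Finset.inf_le hc : gens.inf V ≤ V c) hz') (hUle hz)
      have hz2 := (hres hz a').2 hspan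
      rw [← he] at hz2
      obtain ⟨α, hα⟩ := hz2
      have hu : IsUnit (X.presheaf.germ U z hz (ores hUle (f ^ n))) := by
        rw [TopCat.Presheaf.germ_res_apply, map_pow]
        exact ((X.mem_basicOpen f z (hUle hz)).1 hz).pow n
      obtain ⟨v, hv⟩ := hu
      refine ⟨(↑v⁻¹ : X.presheaf.stalk z) • α, ?_⟩
      rw [map_smul, hα, map_mul, ← hv, mul_comm, mul_smul, ← mul_smul, Units.inv_mul, one_smul]
    · refine Or.inl ((Ideal.eq_top_iff_one _).2 ?_)
      have h1 : (1 : Γ(X, U₀)) ∈ colonAt i s y (hU₁le (hUle hy)) := by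
        rw [not_ne_iff.1 hyZ]; exact Submodule.mem_top
      obtain ⟨α, hα⟩ := h1
      exact ⟨α, by rw [hα, map_one, map_one]; simp only [s₂, s₁, s, germ_mres]⟩
  refine ⟨U, hU, s₂, q.1, hqf, fun α hα => hqZ ((Ideal.eq_top_iff_one _).2 ⟨α, ?_⟩), hs⟩
  rw [hα, map_one, one_smul, germ_mres, germ_mres]

/-- A quasi-coherent module on a locally Noetherian scheme with injective stalks is injective. -/
theorem injective_of_stalk [IsLocallyNoetherian X] (F : X.Modules) (hF : Coh.IsQCoh F)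
    (h : ∀ x : X, Module.Injective (X.presheaf.stalk x) (F.presheaf.stalk x)) : Injective F := by
  haveI := hF
  refine injective_of_forall_extend.{u} F fun {A B} i hmono g hi => ?_
  obtain ⟨U, hU, s, q, hq, hbad, hs⟩ := exists_good_open i hi
  haveI : IsNoetherianRing Γ(X, U) := IsLocallyNoetherian.component_noetherian ⟨U, hU⟩
  obtain ⟨m, hm⟩ := exists_extension i s g hmono hU (injective_sections F hU h) hs
  exact exists_larger i g U s hq hbad m hm

end Groth.Agent.InjMod
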