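import Groth.Agent.Lib.InjMod.Hull
import Groth.Agent.Lib.InjMod.QCoh
import Groth.Agent.Lib.DMV.Counit
import Groth.Agent.Lib.DMV.ExtZero
import Groth.Agent.Lib.ModM1.Affine
import Groth.Agent.Lib.ModM1.Local
import Groth.Agent.Lib.CohFound.ModulesInst
import Mathlib.RingTheory.LocalProperties.Injective
import Mathlib.Algebra.Category.ModuleCat.EnoughInjectives

/-!
# Injective hulls of quasi-coherent modules are quasi-coherent on locally Noetherian schemes
-/

set_option autoImplicit false
set_option linter.style.haveILetI false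
set_option backward.isDefEq.respectTransparency false
set_option backward.isDefEq.respectTransparency.types false

universe u

open CategoryTheory CategoryTheory.Limits AlgebraicGeometry

namespace Groth.Agent.InjMod

open Groth.Agent

/-- Stalks of `E^~` are injective for an injective module `E` over a Noetherian ring. -/
theorem injective_stalk_tilde (R : CommRingCat.{u}) [IsNoetherianRing R] (E : ModuleCat.{u} R)
    [Module.Injective R E] (x : Spec R) :
    Module.Injective ((Spec R).presheaf.stalk x) ((tilde E).presheaf.stalk x) := by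
  let x' : PrimeSpectrum R := x
  let A := ((Spec R).presheaf.stalk x' : Type u)
  letI : Algebra R A := (StructureSheaf.toStalk R x').hom.toAlgebra
  haveI : IsLocalization x'.asIdeal.primeCompl A := by
    exact (inferInstance : IsLocalization.AtPrime ((Spec.structureSheaf R).presheaf.stalk x') x'.asIdeal)
  haveI : IsScalarTower R A ((tilde E).presheaf.stalk x') :=
    ⟨fun r a z => by rw [Algebra.smul_def, mul_smul]; rfl⟩
  haveI : IsLocalizedModule x'.asIdeal.primeCompl (tilde.toStalk E x').hom :=
    inferInstanceAs (IsLocalizedModule x'.asIdeal.primeCompl (StructureSheaf.toStalkₗ ..))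
  exact Module.injective_of_isLocalizedModule x'.asIdeal.primeCompl (tilde.toStalk E x').hom

/-- A quasi-coherent module on a Noetherian affine scheme embeds in an injective quasi-coherent module. -/
theorem exists_mono_qcoh_injective (R : CommRingCat.{u}) [IsNoetherianRing R] (M : (Spec R).Modules)
    (hM : Coh.IsQCoh M) : ∃ (Q : (Spec R).Modules) (φ : M ⟶ Q), Mono φ ∧ Coh.IsQCoh Q ∧ Injective Q := by
  haveI := hM
  haveI := Scheme.Modules.isIso_fromTildeΓ_of_isQuasicoherent (R := R) M
  let N := (modulesSpecToSheaf.obj M).presheaf.obj (.op ⊤)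
  let E := Injective.under N
  haveI : Injective (ModuleCat.of R E) := (inferInstance : Injective (Injective.under N))
  haveI : Module.Injective R E := Module.injective_module_of_injective_object R E
  have hq : Coh.IsQCoh (tilde (R := R) E) := inferInstanceAs (Coh.IsQCoh (tilde (R := R) E))
  haveI : Mono ((tilde.functor R).map (Injective.ι N)) := Functor.map_mono _ _
  exact ⟨tilde E, inv M.fromTildeΓ ≫ (tilde.functor R).map (Injective.ι N), mono_comp _ _, hq,
    injective_of_stalk _ hq (injective_stalk_tilde R E)⟩

/-- A retract of a quasi-coherent module is quasi-coherent. -/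
theorem isQCoh_of_retract {X : Scheme.{u}} {M Q : X.Modules} (f : M ⟶ Q) (r : Q ⟶ M) (h : f ≫ r = 𝟙 M)
    (hQ : Coh.IsQCoh Q) : Coh.IsQCoh M := by
  haveI : IsSplitMono f := IsSplitMono.mk' ⟨r, h⟩
  have hf : f ≫ (𝟙 Q - r ≫ f) = 0 := by
    rw [Preadditive.comp_sub, Category.comp_id, ← Category.assoc, h, Category.id_comp, sub_self]
  have hlim : IsLimit (KernelFork.ofι f hf) :=
    KernelFork.IsLimit.ofι' f hf fun {T} g hg => ⟨g ≫ r, by
      rw [Preadditive.comp_sub, Category.comp_id, sub_eq_zero] at hg
      rw [Category.assoc]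
      exact hg.symm⟩
  exact M1.isQCoh_of_isIso (hlim.conePointUniqueUpToIso (limit.isLimit _)).symm (M1.isQCoh_kernel hQ hQ _)

/-- Restriction along an isomorphism is an equivalence. -/
noncomputable def restrictEquiv {X Y : Scheme.{u}} (e : X ⟶ Y) [IsIso e] : Y.Modules ≌ X.Modules :=
  CategoryTheory.Equivalence.mk (Scheme.Modules.restrictFunctor e) (Scheme.Modules.restrictFunctor (inv e))
    (Scheme.Modules.restrictFunctorId.symm ≪≫ Scheme.Modules.restrictFunctorCongr (IsIso.inv_hom_id e).symm ≪≫
      Scheme.Modules.restrictFunctorComp (inv e) e)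
    ((Scheme.Modules.restrictFunctorComp e (inv e)).symm ≪≫
      Scheme.Modules.restrictFunctorCongr (IsIso.hom_inv_id e) ≪≫ Scheme.Modules.restrictFunctorId)

/-- An essential injective extension of a quasi-coherent module is quasi-coherent. -/
theorem isQCoh_of_essential {X : Scheme.{u}} [IsLocallyNoetherian X] {M I : X.Modules} (hM : Coh.IsQCoh M)
    [Injective I] {i : M ⟶ I} (hi : IsEssentialMono i) : Coh.IsQCoh I := by
  refine M1.isQCoh_of_fromSpec fun U hU => ?_
  haveI : IsNoetherianRing Γ(X, U) := IsLocallyNoetherian.component_noetherian ⟨U, hU⟩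
  haveI := isIso_unit_extZero U
  haveI := injective_restrict U I
  have h₁ := hi.map (CxOX.extZeroAdj U.ι) (fun N => DMV.mono_counit U N)
  let E := restrictEquiv hU.isoSpec.inv
  have h₂ := h₁.map E.symm.toAdjunction (fun N => inferInstance)
  haveI : Injective (E.functor.obj ((Scheme.Modules.restrictFunctor U.ι).obj I)) :=
    E.symm.toAdjunction.map_injective _ inferInstance
  let κ : Scheme.Modules.restrictFunctor hU.fromSpec ≅
      Scheme.Modules.restrictFunctor U.ι ⋙ E.functor :=
    Scheme.Modules.restrictFunctorCongr (hU.isoSpec_inv_ι).symm ≪≫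
      Scheme.Modules.restrictFunctorComp hU.isoSpec.inv U.ι
  obtain ⟨Q, φ, hφ, hQ, hQi⟩ := exists_mono_qcoh_injective Γ(X, U)
    (E.functor.obj ((Scheme.Modules.restrictFunctor U.ι).obj M))
    (M1.isQCoh_of_isIso (κ.app M) (M1.isQCoh_fromSpec hM hU))
  haveI : Mono (E.functor.map ((Scheme.Modules.restrictFunctor U.ι).map i)) := h₂.mono
  let f := Injective.factorThru φ (E.functor.map ((Scheme.Modules.restrictFunctor U.ι).map i))
  have hf : E.functor.map ((Scheme.Modules.restrictFunctor U.ι).map i) ≫ f = φ := Injective.comp_factorThru _ _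
  haveI : Mono f := h₂.detect f (by
    change Mono (E.functor.map ((Scheme.Modules.restrictFunctor U.ι).map i) ≫ f)
    rw [hf]; exact hφ)
  have hK : Coh.IsQCoh (E.functor.obj ((Scheme.Modules.restrictFunctor U.ι).obj I)) :=
    isQCoh_of_retract f (Injective.factorThru (𝟙 _) f) (Injective.comp_factorThru _ _) hQ
  exact M1.isQCoh_of_isIso (κ.app I).symm hK

/-- An injective object of the category of quasi-coherent modules is an injective module. -/
theorem injective_obj_of_injective_qcoh {X : Scheme.{u}} [IsLocallyNoetherian X]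
    (J : ObjectProperty.FullSubcategory (fun M : X.Modules => Coh.IsQCoh M)) [Injective J] : Injective J.obj := by
  obtain ⟨I, i, hI, hi⟩ := exists_injectiveHull.{u} J.obj
  let I' : ObjectProperty.FullSubcategory (fun M : X.Modules => Coh.IsQCoh M) :=
    ⟨I, isQCoh_of_essential J.property hi⟩
  let i' : J ⟶ I' := ObjectProperty.homMk i
  haveI : Mono i' :=
    (ObjectProperty.ι (fun M : X.Modules => Coh.IsQCoh M)).mono_of_mono_map hi.mono
  have h := congrArg (fun g => g.hom) (Injective.comp_factorThru (𝟙 J) i')
  exact Retract.injective ⟨i, (Injective.factorThru (𝟙 J) i').hom, h⟩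

end Groth.Agent.InjMod
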