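import Groth.Agent.Lib.InjMod.QCoh
import Groth.Agent.Lib.CohFound.ModQuot
import Mathlib.LinearAlgebra.Finsupp.LinearCombination

/-!
# Stalks of sums, and sums of extensions by zero
-/

set_option autoImplicit false
set_option linter.style.haveILetI false
set_option backward.isDefEq.respectTransparency false
set_option backward.isDefEq.respectTransparency.types false

universe u

open CategoryTheory CategoryTheory.Limits AlgebraicGeometry TopologicalSpace Opposite

namespace Groth.Agent.InjMod

open Groth.Agent M1 CurveCoh17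

variable {X : Scheme.{u}}

theorem stalkLin_zero_apply (A B : X.Modules) (x : X) (a : A.presheaf.stalk x) : stalkLin (0 : A ⟶ B) x a = 0 := by
  rw [stalkLin_apply, Functor.map_zero]
  rfl

theorem stalkLin_id_apply (A : X.Modules) (x : X) (a : A.presheaf.stalk x) : stalkLin (𝟙 A) x a = a := by
  rw [stalkLin_apply, CategoryTheory.Functor.map_id]
  rfl

/-- The stalk of a coproduct is spanned by the stalks of the summands. -/
theorem iSup_range_stalk_ι {ι : Type u} (M : ι → X.Modules) (x : X) :
    ⨆ i, LinearMap.range (stalkLin (Sigma.ι M i) x) = ⊤ := by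
  let N := ⨆ i, LinearMap.range (stalkLin (Sigma.ι M i) x)
  let π := AddCommGrpCat.ofHom (Y := AddCommGrpCat.of (((∐ M).presheaf.stalk x : Type u) ⧸ N)) N.mkQ.toAddMonoidHom
  have hπ : (π : (M1.stalkAb x).obj (∐ M) ⟶ _) = 0 := by
    refine (isColimitOfPreserves (M1.stalkAb x) (coproductIsCoproduct M)).hom_ext fun ⟨i⟩ => ?_
    refine Eq.trans ?_ comp_zero.symm
    exact AddCommGrpCat.ext fun a => (Submodule.Quotient.mk_eq_zero N).2
      ((le_iSup (fun i => LinearMap.range (stalkLin (Sigma.ι M i) x)) i) ⟨a, rfl⟩)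
  exact eq_top_iff.2 fun a _ => (Submodule.Quotient.mk_eq_zero N).1 (ConcreteCategory.congr_hom hπ a)

/-- Every stalk element of a coproduct comes from finitely many summands. -/
theorem exists_finset_mem_stalk_ι {ι : Type u} (M : ι → X.Modules) (x : X) (a : (∐ M).presheaf.stalk x) :
    ∃ S : Finset ι, a ∈ ⨆ i ∈ S, LinearMap.range (stalkLin (Sigma.ι M i) x) :=
  Submodule.exists_finset_of_mem_iSup _ (iSup_range_stalk_ι M x ▸ Submodule.mem_top)

theorem eq_zero_of_smul_germ_one {U : X.Opens} {y : X} (hy : y ∈ U) (c : X.presheaf.stalk y)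
    (h : c • ((Coh.structureModule X).presheaf.germ U y hy (M1.one U) :
      (Coh.structureModule X).presheaf.stalk y) = 0) : c = 0 := by
  obtain ⟨V, hV, r, rfl⟩ := X.presheaf.exists_germ_eq c
  have hW : y ∈ V ⊓ U := ⟨hV, hy⟩
  rw [← X.presheaf.germ_res_apply (homOfLE (inf_le_left : V ⊓ U ≤ V)) y hW r,
    ← M1.germ_mres (Coh.structureModule X) (inf_le_right : V ⊓ U ≤ U) hW, ← M1.germ_smul, M1.mres_one] at h
  obtain ⟨W, hyW, i₁, i₂, he⟩ := (Coh.structureModule X).presheaf.germ_eq y hW hW
    (ores (inf_le_left : V ⊓ U ≤ V) r • M1.one (V ⊓ U)) 0 (h.trans (map_zero _).symm)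
  have e1 : (ores (inf_le_left : V ⊓ U ≤ V) r • M1.one (V ⊓ U) : Γ(Coh.structureModule X, V ⊓ U)) =
      (show Γ(Coh.structureModule X, V ⊓ U) from ores (inf_le_left : V ⊓ U ≤ V) r) :=
    mul_one (ores (inf_le_left : V ⊓ U ≤ V) r)
  rw [e1] at he
  have he' : ores (i₁.le.trans (inf_le_left : V ⊓ U ≤ V)) r = 0 := by
    rw [← M1.ores_ores (inf_le_left : V ⊓ U ≤ V) i₁.le]
    exact he.trans (map_zero _)
  rw [← X.presheaf.germ_res_apply (homOfLE (i₁.le.trans (inf_le_left : V ⊓ U ≤ V))) y hyW r]
  exact (congrArg (X.presheaf.germ W y hyW) he').trans (map_zero _)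

/-- The generator of `j_! O_U` is torsion free at the points of `U`. -/
theorem smul_gen_eq_zero (U : X.Opens) {y : X} (hy : y ∈ U) (c : X.presheaf.stalk y)
    (h : c • (((CxOX.extZero U.ι).obj (Coh.structureModule (U : Scheme.{u}))).presheaf.germ U y hy (gen U) :
      ((CxOX.extZero U.ι).obj (Coh.structureModule (U : Scheme.{u}))).presheaf.stalk y) = 0) : c = 0 := by
  obtain ⟨w, hw⟩ := exists_hom_gen U (M := Coh.structureModule X) (M1.one U)
  have h1 := congrArg (stalkLin w y) h
  rw [map_smul, map_zero, stalkLin_apply, M1.germ_naturality, hw] at h1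
  exact eq_zero_of_smul_germ_one hy c h1

/-- Sums of extensions by zero of structure sheaves are flat. -/
theorem flat_coprod_extZeroUnit {ι : Type u} (U : ι → X.Opens) :
    FlatMod.IsFlat (∐ fun i => CxOX.extZeroUnit (U i).ι) := by
  classical
  intro y
  let G := fun i => CxOX.extZeroUnit (U i).ι
  let J := {i : ι // y ∈ U i}
  let v : J → (∐ G).presheaf.stalk y := fun i =>
    stalkLin (Sigma.ι G i.1) y ((G i.1).presheaf.germ (U i.1) y i.2 (gen (U i.1)))
  have hspan : ⊤ ≤ Submodule.span (X.presheaf.stalk y) (Set.range v) := by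
    rw [← iSup_range_stalk_ι G y, iSup_le_iff]
    rintro i _ ⟨a, rfl⟩
    by_cases hi : y ∈ U i
    · obtain ⟨c, hc⟩ := exists_smul_gen (U i) hi a
      rw [hc, map_smul]
      exact Submodule.smul_mem _ _ (Submodule.subset_span ⟨⟨i, hi⟩, rfl⟩)
    · rw [stalk_gen_eq_zero (U i) hi a, map_zero]
      exact Submodule.zero_mem _
  have hli : LinearIndependent (X.presheaf.stalk y) v := by
    rw [linearIndependent_iff]
    intro l hl
    ext j
    have h1 := congrArg (stalkLin (Sigma.π G j.1) y) hl
    rw [Finsupp.linearCombination_apply, Finsupp.sum, map_sum, map_zero,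
      Finset.sum_eq_single j] at h1
    · rw [map_smul] at h1
      simp only [v] at h1
      rw [← stalkLin_comp_apply, Sigma.ι_π_eq_id, stalkLin_id_apply] at h1
      exact smul_gen_eq_zero _ j.2 _ h1
    · intro i _ hij
      rw [map_smul]
      simp only [v]
      rw [← stalkLin_comp_apply, Sigma.ι_π_of_ne _ (fun h => hij (Subtype.ext h)), stalkLin_zero_apply, smul_zero]
    · intro hj
      rw [Finsupp.notMem_support_iff.1 hj, zero_smul, map_zero]
  haveI := Module.Free.of_basis (Module.Basis.mk hli hspan)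
  exact Module.Flat.of_free (R := X.presheaf.stalk y) (M := (∐ G).presheaf.stalk y)

/-- A map from a sum of extensions by zero hitting given sections is an epimorphism. -/
theorem exists_epi_of_sections (F : X.Modules) {ι : Type u} (U : ι → X.Opens) (s : ∀ i, Γ(F, U i))
    (h : ∀ (x : X) (b : F.presheaf.stalk x), ∃ (i : ι) (hx : x ∈ U i), F.presheaf.germ (U i) x hx (s i) = b) :
    ∃ p : (∐ fun i => CxOX.extZeroUnit (U i).ι) ⟶ F, Epi p := by
  have hk : ∀ i, ∃ k : CxOX.extZeroUnit (U i).ι ⟶ F, k.app (U i) (gen (U i)) = s i := fun i =>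
    exists_hom_gen (U i) (s i)
  choose k hk using hk
  refine ⟨Sigma.desc k, (M1.epi_iff_stalk _).2 fun x b => ?_⟩
  obtain ⟨i, hx, rfl⟩ := h x b
  refine ⟨stalkLin (Sigma.ι (fun i => CxOX.extZeroUnit (U i).ι) i) x
    ((CxOX.extZeroUnit (U i).ι).presheaf.germ (U i) x hx (gen (U i))), ?_⟩
  refine (stalkLin_comp_apply (Sigma.ι (fun i => CxOX.extZeroUnit (U i).ι) i) (Sigma.desc k) x _).symm.trans ?_
  rw [Sigma.ι_desc, stalkLin_apply, M1.germ_naturality, hk]

/-- The opens indexing all sections of a module. -/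
def secOpen {F : X.Modules} (i : Σ U : X.Opens, Γ(F, U)) : X.Opens := i.1

/-- Every module is a quotient of a flat sum of extensions by zero of structure sheaves. -/
theorem exists_epi_coprod_extZeroUnit (F : X.Modules) :
    ∃ (ι : Type u) (U : ι → X.Opens) (p : (∐ fun i => CxOX.extZeroUnit (U i).ι) ⟶ F),
      Epi p ∧ FlatMod.IsFlat (∐ fun i => CxOX.extZeroUnit (U i).ι) := by
  obtain ⟨p, hp⟩ := exists_epi_of_sections F (secOpen (F := F)) (fun i => i.2) fun x b => by
    obtain ⟨U, hxU, s, rfl⟩ := F.presheaf.exists_germ_eq b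
    exact ⟨⟨U, s⟩, hxU, rfl⟩
  exact ⟨_, secOpen (F := F), p, hp, flat_coprod_extZeroUnit _⟩

end Groth.Agent.InjMod
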