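import Groth.Agent.Lib.InjMod.GenSum
import Mathlib.Algebra.Category.ModuleCat.Injective

/-!
# Stalks of injective modules on locally Noetherian schemes are injective
-/

set_option autoImplicit false
set_option linter.style.haveILetI false
set_option backward.isDefEq.respectTransparency false
set_option backward.isDefEq.respectTransparency.types false
set_option maxHeartbeats 1000000

universe u

open CategoryTheory CategoryTheory.Limits AlgebraicGeometry TopologicalSpace Opposite

namespace Groth.Agent.InjMod

open Groth.Agent M1 CurveCoh17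

variable {X : Scheme.{u}}

theorem stalkLin_sum_apply {A B : X.Modules} {κ : Type*} (s : Finset κ) (f : κ → (A ⟶ B)) (x : X)
    (a : A.presheaf.stalk x) : stalkLin (∑ l ∈ s, f l) x a = ∑ l ∈ s, stalkLin (f l) x a := by
  classical
  induction s using Finset.induction_on with
  | empty => simp [stalkLin_zero_apply]
  | insert l s hl ih =>
    rw [Finset.sum_insert hl, Finset.sum_insert hl, ← ih, stalkLin_apply, Functor.map_add]
    rfl

/-- Prescribed values on finitely many functions without extra relations come from one section. -/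
theorem exists_section_of_relations (I : X.Modules) [Injective I] {n : ℕ} (W : X.Opens)
    (r : Fin n → Γ(X, W)) (m : Fin n → Γ(I, W))
    (hrel : ∀ (y : X) (hy : y ∈ W) (c : Fin n → X.presheaf.stalk y),
      ∑ l, c l * X.presheaf.germ W y hy (r l) = 0 →
      ∑ l, c l • (I.presheaf.germ W y hy (m l) : I.presheaf.stalk y) = 0) :
    ∃ m₀ : Γ(I, W), ∀ (y : X) (hy : y ∈ W) (l : Fin n),
      X.presheaf.germ W y hy (r l) • (I.presheaf.germ W y hy m₀ : I.presheaf.stalk y) =
        I.presheaf.germ W y hy (m l) := by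
  haveI := Abelian.hasFiniteBiproducts (C := X.Modules)
  let L := CxOX.extZeroUnit W.ι
  choose w hw using fun l => exists_hom_gen W (M := Coh.structureModule X) (r l • M1.one W)
  choose k hk using fun l => exists_hom_gen W (m l)
  let G := ⨁ fun _ : Fin n => L
  let ψ : G ⟶ Coh.structureModule X := biproduct.desc w
  let kk : G ⟶ I := biproduct.desc k
  have hz : kernel.ι ψ ≫ kk = 0 := by
    refine Scheme.Modules.hom_ext _ _ fun V => ?_
    ext p
    refine M1.section_ext _ _ fun y hy => ?_
    rw [← M1.germ_naturality, ← M1.germ_naturality, ← stalkLin_apply, ← stalkLin_apply, stalkLin_zero_apply,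
      stalkLin_comp_apply]
    have hker : stalkLin ψ y (stalkLin (kernel.ι ψ) y ((kernel ψ).presheaf.germ V y hy p)) = 0 := by
      rw [← stalkLin_comp_apply, kernel.condition, stalkLin_zero_apply]
    generalize stalkLin (kernel.ι ψ) y ((kernel ψ).presheaf.germ V y hy p) = a at hker ⊢
    have hdec : ∀ {T : X.Modules} (f : Fin n → (L ⟶ T)),
        stalkLin (biproduct.desc f : G ⟶ T) y a = ∑ l, stalkLin (f l) y (stalkLin (biproduct.π (fun _ : Fin n => L) l) y a) := by
      intro T f
      rw [biproduct.desc_eq, stalkLin_sum_apply]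
      simp only [stalkLin_comp_apply]
    rw [show stalkLin ψ y a = _ from hdec w] at hker
    rw [show stalkLin kk y a = _ from hdec k]
    by_cases hyW : y ∈ W
    · choose c hc using fun l => exists_smul_gen W hyW (stalkLin (biproduct.π (fun _ : Fin n => L) l) y a)
      have e1 : ∀ l, stalkLin (w l) y (stalkLin (biproduct.π (fun _ : Fin n => L) l) y a) =
          (c l * X.presheaf.germ W y hyW (r l)) •
            ((Coh.structureModule X).presheaf.germ W y hyW (M1.one W) : (Coh.structureModule X).presheaf.stalk y) := by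
        intro l
        rw [hc l, map_smul, stalkLin_apply, M1.germ_naturality, hw, M1.germ_smul, mul_smul]
      have e2 : ∀ l, stalkLin (k l) y (stalkLin (biproduct.π (fun _ : Fin n => L) l) y a) =
          c l • (I.presheaf.germ W y hyW (m l) : I.presheaf.stalk y) := by
        intro l
        rw [hc l, map_smul, stalkLin_apply, M1.germ_naturality, hk]
      have hker' := (Finset.sum_congr rfl fun l _ => e1 l).symm.trans hker
      rw [← Finset.sum_smul] at hker'
      exact (Finset.sum_congr rfl fun l _ => e2 l).trans (hrel y hyW c (eq_zero_of_smul_germ_one hyW _ hker'))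
    · refine Finset.sum_eq_zero fun l _ => ?_
      rw [stalk_gen_eq_zero W hyW (stalkLin (biproduct.π (fun _ : Fin n => L) l) y a), map_zero]
  let h : Abelian.coimage ψ ⟶ I := cokernel.desc (kernel.ι ψ) kk hz
  let e := Injective.factorThru h (Abelian.factorThruCoimage ψ)
  have he : ψ ≫ e = kk := by
    conv_lhs => rw [← Abelian.coimage.fac ψ]
    rw [Category.assoc, Injective.comp_factorThru]
    exact cokernel.π_desc _ _ _
  refine ⟨e.app W (M1.one W), fun y hy l => ?_⟩
  rw [← M1.germ_smul, ← Scheme.Modules.Hom.app_smul]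
  have h1 : w l ≫ e = k l := by
    have := congrArg (fun f => biproduct.ι (fun _ : Fin n => L) l ≫ f) he
    simpa [ψ, kk] using this
  have h2 : (w l ≫ e).app W (gen W) = m l := by rw [h1, hk]
  rw [Scheme.Modules.Hom.comp_app] at h2
  change e.app W ((w l).app W (gen W)) = m l at h2
  rw [hw] at h2
  exact congrArg (I.presheaf.germ W y hy) h2

/-- Stalks of injective modules are injective. -/
theorem injective_stalk [IsLocallyNoetherian X] (I : X.Modules) [Injective I] (x : X) :
    Module.Injective (X.presheaf.stalk x) (I.presheaf.stalk x) := by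
  classical
  refine Module.Baer.iff_injective.1 fun a φ => ?_
  obtain ⟨U, hU, hxU, -⟩ := exists_isAffineOpen_mem_and_subset (x := x) (U := ⊤) trivial
  haveI : IsNoetherianRing Γ(X, U) := IsLocallyNoetherian.component_noetherian ⟨U, hU⟩
  let a' : Ideal Γ(X, U) := a.comap (X.presheaf.germ U x hxU).hom
  obtain ⟨n, r, hr⟩ := Submodule.fg_iff_exists_fin_generating_family.1 (IsNoetherian.noetherian a' : a'.FG)
  have hrmem : ∀ l, X.presheaf.germ U x hxU (r l) ∈ a := fun l =>
    (hr ▸ Submodule.subset_span ⟨l, rfl⟩ : r l ∈ a')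
  have hgerms : ∀ l, ∃ (V : X.Opens) (hV : x ∈ V) (m : Γ(I, V)),
      I.presheaf.germ V x hV m = φ ⟨_, hrmem l⟩ := fun l => I.presheaf.exists_germ_eq _
  choose V hV m hm using hgerms
  obtain ⟨q, v, hv⟩ := Submodule.fg_iff_exists_fin_generating_family.1
    (IsNoetherian.noetherian (LinearMap.ker (Fintype.linearCombination Γ(X, U) r)) :
      (LinearMap.ker (Fintype.linearCombination Γ(X, U) r)).FG)
  let V₀ : X.Opens := U ⊓ Finset.univ.inf V
  have hxV₀ : x ∈ V₀ := ⟨hxU, Finset.inf_induction (p := fun O : X.Opens => x ∈ O) trivial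
    (fun _ ha _ hb => ⟨ha, hb⟩) fun l _ => hV l⟩
  have hle : ∀ l, V₀ ≤ V l := fun l => inf_le_right.trans (Finset.inf_le (Finset.mem_univ l))
  have hleU : V₀ ≤ U := inf_le_left
  -- the relations vanish near `x`
  have hrel0 : ∀ t : Fin q, ∃ (Wt : X.Opens) (_ : x ∈ Wt) (h : Wt ≤ V₀),
      ∑ l, ores (h.trans hleU) (v t l) • mres I (h.trans (hle l)) (m l) = 0 := by
    intro t
    have h0 : I.presheaf.germ V₀ x hxV₀ (∑ l, ores hleU (v t l) • mres I (hle l) (m l)) =
        I.presheaf.germ V₀ x hxV₀ 0 := by
      have hmem : v t ∈ LinearMap.ker (Fintype.linearCombination Γ(X, U) r) := hv ▸ Submodule.subset_span ⟨t, rfl⟩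
      rw [LinearMap.mem_ker, Fintype.linearCombination_apply] at hmem
      rw [map_sum, map_zero]
      simp only [M1.germ_smul, TopCat.Presheaf.germ_res_apply, germ_mres, hm, ← map_smul, ← map_sum]
      refine (congrArg φ (Subtype.ext ?_)).trans (map_zero φ)
      have h2 := congrArg (X.presheaf.germ U x hxU) hmem
      simp only [map_sum, map_zero, smul_eq_mul, map_mul] at h2
      simp only [Submodule.coe_sum, SetLike.val_smul, smul_eq_mul, ZeroMemClass.coe_zero]
      exact h2
    obtain ⟨Wt, hxWt, i₁, i₂, he⟩ := I.presheaf.germ_eq x hxV₀ hxV₀ _ _ h0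
    refine ⟨Wt, hxWt, i₁.le, ?_⟩
    rw [map_zero] at he
    refine Eq.trans ?_ he
    change _ = mres I i₁.le _
    rw [map_sum]
    simp only [mres_smul, mres_mres, M1.ores_ores]
  choose Wt hxWt hWt hWtrel using hrel0
  let W₀ : X.Opens := V₀ ⊓ Finset.univ.inf Wt
  have hxW₀ : x ∈ W₀ := ⟨hxV₀, Finset.inf_induction (p := fun O : X.Opens => x ∈ O) trivial
    (fun _ ha _ hb => ⟨ha, hb⟩) fun t _ => hxWt t⟩
  have hW₀ : W₀ ≤ V₀ := inf_le_left
  obtain ⟨m₀, hm₀⟩ := exists_section_of_relations I W₀ (fun l => ores (hW₀.trans hleU) (r l))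
    (fun l => mres I (hW₀.trans (hle l)) (m l)) fun y hy c hc => by
      have hyU : y ∈ U := hleU (hW₀ hy)
      choose b u hu hub using fun l => exists_eq_mul_germ hU hyU (c l)
      -- clear denominators
      let d : X.presheaf.stalk y := ∏ l, X.presheaf.germ U y hyU (u l)
      let e : Fin n → Γ(X, U) := fun l => b l * ∏ l' ∈ Finset.univ.erase l, u l'
      have hd : IsUnit d := IsUnit.prod_univ_iff.2 hu
      have he : ∀ l, X.presheaf.germ U y hyU (e l) = d * c l := fun l => by
        simp only [e, d, map_mul, map_prod, ← hub l]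
        rw [← Finset.mul_prod_erase Finset.univ _ (Finset.mem_univ l)]
        ring
      simp only [TopCat.Presheaf.germ_res_apply] at hc
      have hz : X.presheaf.germ U y hyU (∑ l, e l * r l) = 0 := by
        rw [map_sum, Finset.sum_congr rfl fun l _ => by rw [map_mul, he l, mul_assoc], ← Finset.mul_sum, hc,
          mul_zero]
      letI := TopCat.Presheaf.algebra_section_stalk X.presheaf (⟨y, hyU⟩ : U)
      haveI := hU.isLocalization_stalk ⟨y, hyU⟩
      obtain ⟨⟨w, hw⟩, hw0⟩ := (IsLocalization.map_eq_zero_iff (hU.primeIdealOf ⟨y, hyU⟩).asIdeal.primeCompl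
        (X.presheaf.stalk y) (∑ l, e l * r l)).1 hz
      have hwu : IsUnit (X.presheaf.germ U y hyU w) := (M1.isUnit_germ_iff hU hyU w).2 hw
      have hk : (fun l => w * e l) ∈ Submodule.span Γ(X, U) (Set.range v) := by
        rw [hv, LinearMap.mem_ker, Fintype.linearCombination_apply]
        simp only [smul_eq_mul, mul_assoc, ← Finset.mul_sum]
        exact hw0
      let Φ : (Fin n → Γ(X, U)) → I.presheaf.stalk y := fun z =>
        ∑ l, X.presheaf.germ U y hyU (z l) • (I.presheaf.germ W₀ y hy (mres I (hW₀.trans (hle l)) (m l)) :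
          I.presheaf.stalk y)
      have hΦ : ∀ z ∈ Submodule.span Γ(X, U) (Set.range v), Φ z = 0 := by
        intro z hz
        induction hz using Submodule.span_induction with
        | mem z hz =>
          obtain ⟨t, rfl⟩ := hz
          have hyt : y ∈ Wt t := (Finset.inf_le (Finset.mem_univ t) : Finset.univ.inf Wt ≤ Wt t) hy.2
          have h1 := congrArg (I.presheaf.germ (Wt t) y hyt) (hWtrel t)
          rw [map_sum, map_zero] at h1
          simp only [M1.germ_smul, TopCat.Presheaf.germ_res_apply, germ_mres] at h1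
          simp only [Φ, germ_mres]
          exact h1
        | zero => simp [Φ]
        | add z z' _ _ hz hz' =>
          simp only [Φ, Pi.add_apply, map_add, add_smul, Finset.sum_add_distrib] at hz hz' ⊢
          rw [hz, hz', add_zero]
        | smul s z _ hz =>
          simp only [Φ, Pi.smul_apply, smul_eq_mul, map_mul, mul_smul, ← Finset.smul_sum] at hz ⊢
          rw [hz, smul_zero]
      have h2 := hΦ _ hk
      simp only [Φ, map_mul, he, mul_smul, ← Finset.smul_sum] at h2
      exact hd.smul_eq_zero.1 (hwu.smul_eq_zero.1 h2)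
  refine ⟨LinearMap.toSpanSingleton _ _ (I.presheaf.germ W₀ x hxW₀ m₀), fun c hc => ?_⟩
  obtain ⟨b, u, hu, hub⟩ := exists_eq_mul_germ hU hxU c
  have hb : b ∈ a' := by
    change X.presheaf.germ U x hxU b ∈ a
    rw [← hub]; exact a.mul_mem_left _ hc
  rw [← hr] at hb
  obtain ⟨z, rfl⟩ := (Submodule.mem_span_range_iff_exists_fun Γ(X, U)).1 hb
  refine hu.smul_left_cancel.1 ?_
  simp only [LinearMap.toSpanSingleton_apply, ← mul_smul, ← map_smul, hub, map_sum, smul_eq_mul, map_mul,
    Finset.sum_smul]
  simp only [SetLike.mk_smul_mk, smul_eq_mul, hub]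
  have hsum : (⟨X.presheaf.germ U x hxU (∑ l, z l * r l), hub ▸ a.mul_mem_left _ hc⟩ : a) =
      ∑ l, X.presheaf.germ U x hxU (z l) • (⟨_, hrmem l⟩ : a) := by
    refine Subtype.ext ?_
    simp only [map_sum, map_mul, Submodule.coe_sum, SetLike.val_smul, smul_eq_mul]
  simp only [← map_mul, ← map_sum] at hsum ⊢
  rw [hsum, map_sum]
  refine Finset.sum_congr rfl fun l _ => ?_
  have h := hm₀ x hxW₀ l
  rw [TopCat.Presheaf.germ_res_apply, germ_mres, hm] at h
  rw [map_mul, mul_smul, h, map_smul]

end Groth.Agent.InjMod
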