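import Mathlib.CategoryTheory.Abelian.GrothendieckCategory.Subobject
import Mathlib.CategoryTheory.Abelian.GrothendieckCategory.EnoughInjectives
import Mathlib.CategoryTheory.Preadditive.Injective.Basic
import Mathlib.CategoryTheory.Adjunction.Limits
import Mathlib.Order.Zorn

/-!
# Essential extensions and injective hulls in Grothendieck abelian categories
-/

set_option autoImplicit false
set_option linter.style.haveILetI false
set_option backward.isDefEq.respectTransparency.types false

universe w v v' u u'

open CategoryTheory CategoryTheory.Limits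

namespace Groth.Agent.InjMod

variable {C : Type u} [Category.{v} C] [Abelian C]

/-- An essential monomorphism. -/
structure IsEssentialMono {A B : C} (i : A ⟶ B) : Prop where
  mono : Mono i
  detect : ∀ {T : C} (f : B ⟶ T), Mono (i ≫ f) → Mono f

theorem IsEssentialMono.id (A : C) : IsEssentialMono (𝟙 A) := ⟨inferInstance, fun f h => by simpa using h⟩

theorem IsEssentialMono.comp {A B D : C} {i : A ⟶ B} {j : B ⟶ D} (hi : IsEssentialMono i)
    (hj : IsEssentialMono j) : IsEssentialMono (i ≫ j) :=
  ⟨haveI := hi.mono; haveI := hj.mono; mono_comp _ _,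
    fun f h => hj.detect f (hi.detect (j ≫ f) (by simpa using h))⟩

theorem IsEssentialMono.of_iso {A B : C} (e : A ⟶ B) [IsIso e] : IsEssentialMono e :=
  ⟨inferInstance, fun f h => by
    haveI := h
    have : Mono (inv e ≫ e ≫ f) := mono_comp _ _
    simpa using this⟩

/-- Two essential extensions of the same object by injectives are isomorphic. -/
theorem IsEssentialMono.exists_iso {A B D : C} {i : A ⟶ B} {j : A ⟶ D} (hi : IsEssentialMono i)
    (hj : IsEssentialMono j) [Injective B] [Injective D] : ∃ e : B ≅ D, i ≫ e.hom = j := by
  haveI := hi.mono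
  haveI := hj.mono
  let f := Injective.factorThru j i
  have hf : i ≫ f = j := Injective.comp_factorThru _ _
  haveI : Mono f := hi.detect f (by rw [hf]; infer_instance)
  let r := Injective.factorThru (𝟙 B) f
  have hr : f ≫ r = 𝟙 B := Injective.comp_factorThru _ _
  haveI : Mono r := hj.detect r (by rw [← hf, Category.assoc, hr, Category.comp_id]; infer_instance)
  refine ⟨⟨f, r, hr, ?_⟩, hf⟩
  rw [← cancel_mono r, Category.assoc, hr, Category.comp_id, Category.id_comp]

section Grothendieck

variable [IsGrothendieckAbelian.{w} C]

/-- A chain of subobjects is indexed by a small directed preorder. -/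
theorem exists_chain_index {B : C} (c : Set (Subobject B)) (hc : IsChain (· ≤ ·) c) (hne : c.Nonempty) :
    ∃ (J : Type w) (_ : Preorder J) (_ : Nonempty J) (_ : IsDirected J (· ≤ ·)) (val : J → Subobject B),
      Monotone val ∧ (∀ j, val j ∈ c) ∧ ∀ S ∈ c, ∃ j, val j = S := by
  haveI : Small.{w} c := small_subset c.subset_univ
  let val : Shrink.{w} c → Subobject B := fun j => ((equivShrink c).symm j).1
  letI : Preorder (Shrink.{w} c) := Preorder.lift val
  refine ⟨Shrink.{w} c, inferInstance, ⟨equivShrink c ⟨_, hne.some_mem⟩⟩, ⟨fun a b => ?_⟩, val,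
    fun _ _ h => h, fun j => ((equivShrink c).symm j).2, fun S hS => ⟨equivShrink c ⟨S, hS⟩, by simp [val]⟩⟩
  rcases hc.total ((equivShrink c).symm a).2 ((equivShrink c).symm b).2 with h | h
  · exact ⟨b, h, le_refl _⟩
  · exact ⟨a, le_refl _, h⟩

/-- There is a maximal essential extension inside any object. -/
theorem exists_maximal_essential {B : C} (S₀ : Subobject B) :
    ∃ (M : Subobject B) (h : S₀ ≤ M), IsEssentialMono (Subobject.ofLE S₀ M h) ∧
      ∀ (T : Subobject B) (hT : M ≤ T), IsEssentialMono (Subobject.ofLE M T hT) → T ≤ M := by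
  let s : Set (Subobject B) := {S | ∃ h : S₀ ≤ S, IsEssentialMono (Subobject.ofLE S₀ S h)}
  have hs₀ : S₀ ∈ s := ⟨le_rfl, by rw [Subobject.ofLE_refl]; exact IsEssentialMono.id _⟩
  obtain ⟨M, hSM, ⟨hM, hmem⟩, hmax⟩ := zorn_le_nonempty₀ s (fun c hcs hc y hy => by
    obtain ⟨J, iJ, neJ, dirJ, val, hmono, hval, hsurj⟩ := exists_chain_index.{w} c hc ⟨y, hy⟩
    letI := iJ
    letI : SmallCategory J := Preorder.smallCategory J
    haveI := neJ
    haveI := dirJ
    haveI : IsFiltered J := inferInstance
    let F : J ⥤ MonoOver B := hmono.functor ⋙ Subobject.representative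
    let D := F ⋙ MonoOver.forget B ⋙ Over.forget B
    let π : colimit D ⟶ B := colimit.desc D (Cocone.mk B
      { app := fun j => (F.obj j).obj.hom
        naturality := fun j j' f => by
          dsimp [D]
          exact (MonoOver.w (F.map f)).trans (Category.comp_id _).symm })
    have hπ : ∀ j, colimit.ι D j ≫ π = (F.obj j).obj.hom := fun j => colimit.ι_desc _ _
    haveI : Mono π := IsGrothendieckAbelian.mono_of_isColimit_monoOver F (colimit.isColimit D) π hπ
    have hle : ∀ j, val j ≤ Subobject.mk π := fun j => Subobject.le_mk_of_comm (colimit.ι D j) (hπ j)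
    obtain ⟨j₀, hj₀⟩ := hsurj y hy
    have h₀ : S₀ ≤ Subobject.mk π := (hcs (hval j₀)).1.trans (hle j₀)
    refine ⟨Subobject.mk π, ⟨h₀, inferInstance, fun {T} f hf => ?_⟩, fun S hS => ?_⟩
    · haveI := hf
      let g : colimit D ⟶ T := (Subobject.underlyingIso π).inv ≫ f
      have key : ∀ j, colimit.ι D j ≫ (Subobject.underlyingIso π).inv = Subobject.ofLE (val j) _ (hle j) := by
        intro j
        rw [← cancel_mono (Subobject.mk π).arrow, Category.assoc, Subobject.underlyingIso_arrow, hπ]
        exact (Subobject.ofLE_arrow _).symm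
      let α : D ⟶ (Functor.const _).obj T :=
        { app := fun j => colimit.ι D j ≫ g
          naturality := fun j j' k => by
            exact ((Category.assoc _ _ _).symm.trans (congrArg (· ≫ g) (colimit.w D k))).trans
              (Category.comp_id _).symm }
      haveI : ∀ j, Mono (α.app j) := fun j => by
        obtain ⟨hj, hess⟩ := hcs (hval j)
        refine hess.detect _ ?_
        change Mono (Subobject.ofLE S₀ (val j) hj ≫ colimit.ι D j ≫ (Subobject.underlyingIso π).inv ≫ f)
        have e : colimit.ι D j ≫ (Subobject.underlyingIso π).inv ≫ f = Subobject.ofLE (val j) _ (hle j) ≫ f :=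
          (Category.assoc _ _ _).symm.trans (congrArg (· ≫ f) (key j))
        convert hf using 1
        refine (congrArg (Subobject.ofLE S₀ (val j) hj ≫ ·) e).trans ?_
        exact (Category.assoc _ _ _).symm.trans (congrArg (· ≫ f) (Subobject.ofLE_comp_ofLE _ _ _ _ _))
      haveI := NatTrans.mono_of_mono_app α
      haveI := IsFiltered.isConnected J
      haveI : Mono g := colim.map_mono' α (colimit.isColimit D) (isColimitConstCocone J T) g (fun j => (Category.comp_id _).symm)
      have hf' : f = (Subobject.underlyingIso π).hom ≫ g := by simp [g]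
      rw [hf']
      exact mono_comp _ _
    · obtain ⟨j, rfl⟩ := hsurj S hS
      exact hle j) S₀ hs₀
  refine ⟨M, hM, hmem, fun T hT hTe => hmax ⟨hM.trans hT, ?_⟩ hT⟩
  rw [← Subobject.ofLE_comp_ofLE _ _ _ hM hT]
  exact hmem.comp hTe

/-- A quotient in which a subobject embeds essentially. -/
theorem exists_essential_quotient {A B : C} (a : A ⟶ B) [Mono a] :
    ∃ (Q : C) (q : B ⟶ Q), Epi q ∧ IsEssentialMono (a ≫ q) := by
  let s : Set (Subobject B) := {S | Mono (a ≫ cokernel.π S.arrow)}
  have hbot : (⊥ : Subobject B) ∈ s := by
    have h0 : (⊥ : Subobject B).arrow = 0 := Subobject.bot_arrow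
    haveI : IsIso (cokernel.π (⊥ : Subobject B).arrow) := by
      rw [h0]; infer_instance
    exact mono_comp _ _
  obtain ⟨S, -, hS, hmax⟩ := zorn_le_nonempty₀ s (fun c hcs hc y hy => by
    obtain ⟨J, iJ, neJ, dirJ, val, hmono, hval, hsurj⟩ := exists_chain_index.{w} c hc ⟨y, hy⟩
    letI := iJ
    letI : SmallCategory J := Preorder.smallCategory J
    haveI := neJ
    haveI := dirJ
    haveI : IsFiltered J := inferInstance
    haveI := IsFiltered.isConnected J
    let D : J ⥤ C :=
      { obj := fun j => cokernel (val j).arrow
        map := fun {j j'} f => cokernel.desc _ (cokernel.π (val j').arrow) (by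
          rw [← Subobject.ofLE_arrow (hmono (leOfHom f)), Category.assoc, cokernel.condition, comp_zero])
        map_id := fun j => by ext; simp
        map_comp := fun f g => by ext; simp }
    let α : (Functor.const J).obj A ⟶ D :=
      { app := fun j => a ≫ cokernel.π (val j).arrow
        naturality := fun j j' f => by simp [D] }
    haveI : ∀ j, Mono (α.app j) := fun j => hcs (hval j)
    haveI := NatTrans.mono_of_mono_app α
    obtain ⟨j₀, hj₀⟩ := hsurj y hy
    let p : B ⟶ colimit D := cokernel.π (val j₀).arrow ≫ colimit.ι D j₀
    have hp : ∀ j, cokernel.π (val j).arrow ≫ colimit.ι D j = p := by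
      have hstep : ∀ {i k : J} (f : i ⟶ k),
          cokernel.π (val k).arrow ≫ colimit.ι D k = cokernel.π (val i).arrow ≫ colimit.ι D i := fun {i k} f => by
        rw [← colimit.w D f, ← Category.assoc]
        simp [D]
      intro j
      exact constant_of_preserves_morphisms (fun i => cokernel.π (val i).arrow ≫ colimit.ι D i)
        (fun i k f => (hstep f).symm) j j₀
    haveI : Mono (a ≫ p) := colim.map_mono' α (isColimitConstCocone J A) (colimit.isColimit D) (a ≫ p) (fun j => by
      simp only [α, ← hp j, Category.assoc]
      exact Category.id_comp _)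
    refine ⟨kernelSubobject p, ?_, fun S hS => ?_⟩
    · change Mono (a ≫ cokernel.π (kernelSubobject p).arrow)
      have hfac : cokernel.π (kernelSubobject p).arrow ≫ cokernel.desc _ p (kernelSubobject_arrow_comp p) = p :=
        cokernel.π_desc _ _ _
      have : Mono ((a ≫ cokernel.π (kernelSubobject p).arrow) ≫
          cokernel.desc _ p (kernelSubobject_arrow_comp p)) := by
        rw [Category.assoc, hfac]; infer_instance
      exact mono_of_mono _ (cokernel.desc _ p (kernelSubobject_arrow_comp p))
    · obtain ⟨j, rfl⟩ := hsurj S hS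
      exact le_kernelSubobject p _ (by rw [← hp j, ← Category.assoc, cokernel.condition, zero_comp])) ⊥ hbot
  refine ⟨cokernel S.arrow, cokernel.π _, inferInstance, hS, fun {T} f hf => ?_⟩
  let p := cokernel.π S.arrow ≫ f
  have hle : S ≤ kernelSubobject p := le_kernelSubobject p _ (by rw [← Category.assoc, cokernel.condition, zero_comp])
  have hmem : kernelSubobject p ∈ s := by
    change Mono (a ≫ cokernel.π (kernelSubobject p).arrow)
    have : Mono ((a ≫ cokernel.π (kernelSubobject p).arrow) ≫
        cokernel.desc _ p (kernelSubobject_arrow_comp p)) := by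
      rw [Category.assoc, cokernel.π_desc]
      simpa [p] using hf
    exact mono_of_mono _ (cokernel.desc _ p (kernelSubobject_arrow_comp p))
  have heq : kernelSubobject p ≤ S := hmax hmem hle
  refine Preadditive.mono_of_isZero_kernel f ?_
  rw [IsZero.iff_id_eq_zero, ← cancel_mono (kernel.ι f)]
  simp only [Category.id_comp, zero_comp]
  -- lift the kernel of `f` along the quotient map
  rw [← cancel_epi (pullback.fst (kernel.ι f) (cokernel.π S.arrow)), comp_zero, pullback.condition]
  have hfac : (kernelSubobject p).Factors (pullback.snd (kernel.ι f) (cokernel.π S.arrow)) := by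
    refine kernelSubobject_factors _ _ ?_
    rw [← Category.assoc, ← pullback.condition, Category.assoc, kernel.condition, comp_zero]
  have hfac' : S.Factors (pullback.snd (kernel.ι f) (cokernel.π S.arrow)) := Subobject.factors_of_le _ heq hfac
  rw [← Subobject.factorThru_arrow _ _ hfac', Category.assoc, cokernel.condition, comp_zero]

/-- Injective hulls exist. -/
theorem exists_injectiveHull [EnoughInjectives C] (A : C) :
    ∃ (I : C) (i : A ⟶ I), Injective I ∧ IsEssentialMono i := by
  let I₀ := Injective.under A
  let ι := Injective.ι A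
  obtain ⟨M, h, hess, hmax⟩ := exists_maximal_essential.{w} (Subobject.mk ι)
  obtain ⟨Q, q, hq, hqe⟩ := exists_essential_quotient.{w} M.arrow
  haveI := hqe.mono
  let k := Injective.factorThru M.arrow (M.arrow ≫ q)
  have hk : M.arrow ≫ q ≫ k = M.arrow := by
    rw [← Category.assoc]; exact Injective.comp_factorThru _ _
  haveI : Mono k := hqe.detect k (by rw [Category.assoc, hk]; infer_instance)
  have hle : M ≤ Subobject.mk k := Subobject.le_mk_of_comm (M.arrow ≫ q) (by rw [Category.assoc, hk])
  have he : IsEssentialMono (Subobject.ofLE M (Subobject.mk k) hle) := by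
    have : Subobject.ofLE M (Subobject.mk k) hle = (M.arrow ≫ q) ≫ (Subobject.underlyingIso k).inv := by
      rw [← cancel_mono (Subobject.mk k).arrow]
      simp [hk]
    rw [this]
    exact hqe.comp (IsEssentialMono.of_iso _)
  let r : Q ⟶ (M : C) := (Subobject.underlyingIso k).inv ≫ Subobject.ofLE _ _ (hmax _ hle he)
  have hr : M.arrow ≫ q ≫ r = 𝟙 _ := by
    rw [← cancel_mono M.arrow]
    simp [r, hk]
  haveI : Injective (M : C) := (Retract.mk M.arrow (q ≫ r) hr).injective
  refine ⟨(M : C), (Subobject.underlyingIso ι).inv ≫ Subobject.ofLE _ M h, inferInstance,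
    (IsEssentialMono.of_iso _).comp hess⟩

end Grothendieck

variable {D : Type u'} [Category.{v'} D] [Abelian D] {L : D ⥤ C} {R : C ⥤ D} (adj : L ⊣ R)
  [PreservesFiniteLimits R] [PreservesFiniteColimits R]
  [PreservesFiniteLimits L] [PreservesFiniteColimits L]

include adj in
/-- Localisation preserves essential monomorphisms. -/
theorem IsEssentialMono.map (hε : ∀ M, Mono (adj.counit.app M)) [IsIso adj.unit] {A B : C} {i : A ⟶ B}
    (hi : IsEssentialMono i) : IsEssentialMono (R.map i) := by
  haveI := hi.mono
  haveI : R.Additive := Functor.additive_of_preserves_binary_products _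
  haveI : L.Additive := Functor.additive_of_preserves_binary_products _
  refine ⟨inferInstance, fun {T} f hf => ?_⟩
  let κ := kernel.ι f
  let k : L.obj (kernel f) ⟶ B := L.map κ ≫ adj.counit.app B
  haveI := hε B
  haveI : Mono k := mono_comp _ _
  have hunit : adj.unit.app (kernel f) ≫ R.map k = κ := by
    simp only [k, R.map_comp]
    rw [← Category.assoc]
    refine (congrArg (· ≫ R.map (adj.counit.app B)) (adj.unit.naturality κ).symm).trans ?_
    rw [Category.assoc, Functor.id_map, adj.right_triangle_components]
    exact Category.comp_id _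
  have hkf : R.map k ≫ f = 0 := by
    rw [← cancel_epi (adj.unit.app (kernel f)), ← Category.assoc, hunit, kernel.condition, comp_zero]
  have hmono : Mono (cokernel.π k) := hi.detect _ (by
    refine Preadditive.mono_of_isZero_kernel _ ?_
    let t := kernel.ι (i ≫ cokernel.π k)
    have ht : (t ≫ i) ≫ cokernel.π k = 0 := by rw [Category.assoc]; exact kernel.condition _
    let S : ShortComplex C := ShortComplex.mk k (cokernel.π k) (cokernel.condition k)
    have hS : S.Exact := S.exact_of_g_is_cokernel (cokernelIsCokernel k)
    let u := hS.lift (t ≫ i) ht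
    have hu : u ≫ k = t ≫ i := hS.lift_f _ ht
    haveI : Mono u := by
      haveI : Mono (u ≫ k) := by rw [hu]; infer_instance
      exact mono_of_mono u k
    have hRt : R.map t = 0 := by
      haveI := hf
      rw [← cancel_mono (R.map i ≫ f), zero_comp, ← Category.assoc, ← R.map_comp, ← hu, R.map_comp,
        Category.assoc, hkf, comp_zero]
    have hRu : R.map u = 0 := by
      haveI : Mono (R.map k) := inferInstance
      rw [← cancel_mono (R.map k), ← R.map_comp, hu, R.map_comp, hRt, zero_comp, zero_comp]
    -- a subobject of `L K` killed by localisation is zero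
    haveI : IsIso (adj.counit.app (L.obj (kernel f))) := by
      have h := adj.left_triangle_components (kernel f)
      haveI : IsIso (L.map (adj.unit.app (kernel f))) := inferInstance
      exact IsIso.of_isIso_fac_left h
    have hu0 : u = 0 := by
      haveI : IsIso (R.map (cokernel.π u)) := by
        have h1 : IsIso (cokernel.π (R.map u)) :=
          ⟨cokernel.desc _ (𝟙 _) (by rw [hRu, zero_comp]), cokernel.π_desc _ _ _, by ext; simp⟩
        have h2 : R.map (cokernel.π u) = cokernel.π (R.map u) ≫ (PreservesCokernel.iso R u).inv := by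
          rw [Iso.eq_comp_inv]; simp
        rw [h2]; infer_instance
      haveI := hε (cokernel u)
      haveI : Mono (adj.counit.app (L.obj (kernel f)) ≫ cokernel.π u) := by
        have h3 : adj.counit.app (L.obj (kernel f)) ≫ cokernel.π u =
            L.map (R.map (cokernel.π u)) ≫ adj.counit.app (cokernel u) := (adj.counit.naturality _).symm
        rw [h3]; infer_instance
      haveI : Mono (cokernel.π u) := by
        have : cokernel.π u = inv (adj.counit.app (L.obj (kernel f))) ≫
            adj.counit.app (L.obj (kernel f)) ≫ cokernel.π u := by simp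
        rw [this]; infer_instance
      rw [← cancel_mono (cokernel.π u), cokernel.condition, zero_comp]
    rw [IsZero.iff_id_eq_zero, ← cancel_mono u, hu0, comp_zero, comp_zero])
  refine Preadditive.mono_of_isZero_kernel f ?_
  rw [IsZero.iff_id_eq_zero, ← cancel_mono κ]
  have hk0 : k = 0 := by rw [← cancel_mono (cokernel.π k), cokernel.condition, zero_comp]
  have : κ = 0 := by rw [← hunit, hk0, R.map_zero, comp_zero]
  rw [this, comp_zero, comp_zero]

end Groth.Agent.InjMod
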