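import Groth.Agent.Lib.InjMod.GenSum
import Mathlib.Topology.Sober

/-!
# `j_! O_U` is a Noetherian object for affine `U`
-/

set_option autoImplicit false
set_option linter.style.haveILetI false
set_option backward.isDefEq.respectTransparency false
set_option backward.isDefEq.respectTransparency.types false

universe u

open CategoryTheory CategoryTheory.Limits AlgebraicGeometry TopologicalSpace Opposite

namespace Groth.Agent.InjMod

open Groth.Agent M1 CurveCoh17

variable {X : Scheme.{u}}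

/-- Increasing chains of local families of ideals stabilise. -/
theorem exists_stable_colon [IsLocallyNoetherian X] {V : X.Opens} (hV : IsAffineOpen V) {B : X.Modules}
    (c : ℕ →o Subobject B) (s : Γ(B, V)) :
    ∃ N, ∀ n, N ≤ n → ∀ (y : X) (hy : y ∈ V), colonAt (c n).arrow s y hy ≤ colonAt (c N).arrow s y hy := by
  haveI : _root_.IsNoetherianRing Γ(X, V) := IsLocallyNoetherian.component_noetherian ⟨V, hV⟩
  haveI : IsAffine (V : Scheme.{u}) := hV
  haveI : AlgebraicGeometry.IsNoetherian (V : Scheme.{u}) := {}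
  haveI : NoetherianSpace (V : Scheme.{u}) := inferInstance
  have hmono : ∀ {m n : ℕ}, m ≤ n → ∀ (y : X) (hy : y ∈ V),
      colonAt (c m).arrow s y hy ≤ colonAt (c n).arrow s y hy := by
    intro m n hmn y hy a ⟨α, hα⟩
    refine ⟨stalkLin (Subobject.ofLE _ _ (c.monotone hmn)) y α, ?_⟩
    rw [← stalkLin_comp_apply, Subobject.ofLE_arrow, hα]
  suffices ∀ Z : Closeds (V : Scheme.{u}), ∃ N, ∀ n, N ≤ n → ∀ z : (V : Scheme.{u}), z ∈ Z →
      colonAt (c n).arrow s z.1 z.2 ≤ colonAt (c N).arrow s z.1 z.2 by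
    obtain ⟨N, hN⟩ := this ⊤
    exact ⟨N, fun n hn y hy => hN n hn ⟨y, hy⟩ trivial⟩
  intro Z
  induction Z using WellFoundedLT.induction with
  | ind Z IH =>
  by_cases hne : (Z : Set (V : Scheme.{u})).Nonempty
  swap
  · exact ⟨0, fun n _ z hz => absurd ⟨z, hz⟩ hne⟩
  by_cases hirr : IsPreirreducible (Z : Set (V : Scheme.{u}))
  swap
  · rw [isPreirreducible_iff_isClosed_union_isClosed] at hirr
    push Not at hirr
    obtain ⟨C₁, C₂, h₁, h₂, hsub, hn₁, hn₂⟩ := hirr
    have key : ∀ C : Set (V : Scheme.{u}), ∀ hC : IsClosed C, ¬ (Z : Set (V : Scheme.{u})) ⊆ C →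
        (Z ⊓ ⟨C, hC⟩ : Closeds (V : Scheme.{u})) < Z := fun C hC hn => inf_le_left.lt_of_ne fun he => hn fun z hz => by
      have : z ∈ (Z ⊓ ⟨C, hC⟩ : Closeds (V : Scheme.{u})) := he.symm ▸ hz
      exact this.2
    obtain ⟨N₁, hN₁⟩ := IH _ (key C₁ h₁ hn₁)
    obtain ⟨N₂, hN₂⟩ := IH _ (key C₂ h₂ hn₂)
    refine ⟨max N₁ N₂, fun n hn z hz => ?_⟩
    rcases hsub hz with h | h
    · exact (hN₁ n (le_of_max_le_left hn) z ⟨hz, h⟩).trans (hmono (le_max_left _ _) _ _)
    · exact (hN₂ n (le_of_max_le_right hn) z ⟨hz, h⟩).trans (hmono (le_max_right _ _) _ _)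
  have hI : IsIrreducible (Z : Set (V : Scheme.{u})) := ⟨hne, hirr⟩
  let q := hI.genericPoint
  have hq : ∀ z ∈ Z, q ⤳ z := fun z hz => by
    have h := hI.isGenericPoint_genericPoint_closure
    rw [Z.isClosed.closure_eq] at h
    exact h.specializes hz
  obtain ⟨N₁, hN₁⟩ := monotone_stabilizes_iff_noetherian.mpr
    (inferInstance : _root_.IsNoetherian Γ(X, V) Γ(X, V))
    ⟨fun n => colonAt (c n).arrow s q.1 q.2, fun _ _ h => hmono h _ _⟩
  obtain ⟨gens, hgens⟩ := (_root_.IsNoetherian.noetherian (colonAt (c N₁).arrow s q.1 q.2) :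
    (colonAt (c N₁).arrow s q.1 q.2).FG)
  choose O hqO hOV σ hσ using fun a : gens =>
    colonAt_witness (c N₁).arrow s (hgens.le (Ideal.subset_span a.2))
  let W : X.Opens := Finset.univ.inf O
  have hqW : q.1 ∈ W := Finset.inf_induction (p := fun O : X.Opens => q.1 ∈ O) trivial
    (fun _ ha _ hb => ⟨ha, hb⟩) fun a _ => hqO a
  have hlt : (Z ⊓ ⟨(V.ι ⁻¹' W)ᶜ, (W.2.preimage V.ι.continuous).isClosed_compl⟩ : Closeds (V : Scheme.{u})) < Z :=
    inf_le_left.lt_of_ne fun he => by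
      have hqZ : q ∈ Z := by
        have h := hI.isGenericPoint_genericPoint_closure
        rw [Z.isClosed.closure_eq] at h
        exact h.mem
      exact ((he.symm ▸ hqZ : q ∈ (Z ⊓ ⟨(V.ι ⁻¹' W)ᶜ, _⟩ : Closeds (V : Scheme.{u})))).2 hqW
  obtain ⟨N₂, hN₂⟩ := IH _ hlt
  refine ⟨max N₁ N₂, fun n hn z hz => ?_⟩
  by_cases hzW : z.1 ∈ W
  swap
  · exact (hN₂ n (le_of_max_le_right hn) z ⟨hz, hzW⟩).trans (hmono (le_max_right _ _) _ _)
  intro a ha
  have haq : a ∈ colonAt (c N₁).arrow s q.1 q.2 := by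
    obtain ⟨O', hzO', hO'V, τ, hτ⟩ := colonAt_witness (c n).arrow s ha
    have hmem : a ∈ colonAt (c n).arrow s q.1 q.2 :=
      ⟨_, hτ q.1 (((hq z hz).map V.ι.continuous).mem_open O'.2 hzO')⟩
    exact (hN₁ n (le_of_max_le_left hn)).ge hmem
  refine hmono (le_max_left N₁ N₂) z.1 z.2 ?_
  refine (Submodule.span_le.2 fun b hb => ?_) (hgens.ge haq)
  exact ⟨_, hσ ⟨b, hb⟩ z.1 ((Finset.inf_le (Finset.mem_univ (⟨b, hb⟩ : gens)) : W ≤ O ⟨b, hb⟩) hzW)⟩

/-- Chains of submodules of `j_! O_V` stabilise for affine `V`. -/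
theorem chain_stabilizes [IsLocallyNoetherian X] {V : X.Opens} (hV : IsAffineOpen V)
    (c : ℕ →o Subobject (CxOX.extZeroUnit V.ι)) : ∃ N, ∀ n, N ≤ n → c N = c n := by
  obtain ⟨N, hN⟩ := exists_stable_colon hV c (gen V)
  refine ⟨N, fun n hn => le_antisymm (c.monotone hn) ?_⟩
  have hle := c.monotone hn
  haveI : IsIso (Subobject.ofLE (c N) (c n) hle) := by
    refine (M1.isIso_iff_stalk _).2 fun y => ?_
    rw [show ((M1.stalkAb y).map (Subobject.ofLE (c N) (c n) hle) : _ → _) =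
      stalkLin (Subobject.ofLE (c N) (c n) hle) y from rfl]
    have hinj : ∀ m, Function.Injective (stalkLin (c m).arrow y) := fun m =>
      (M1.mono_iff_stalk (c m).arrow).1 inferInstance y
    refine ⟨(M1.mono_iff_stalk (Subobject.ofLE (c N) (c n) hle)).1 inferInstance y, fun (β : ((c n : Subobject _) : X.Modules).presheaf.stalk y) => ?_⟩
    by_cases hy : y ∈ V
    · obtain ⟨d, hd⟩ := exists_smul_gen V hy (stalkLin (c n).arrow y β)
      obtain ⟨a, u, hu, hua⟩ := exists_eq_mul_germ hV hy d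
      have ha : a ∈ colonAt (c n).arrow (gen V) y hy :=
        ⟨X.presheaf.germ V y hy u • β, by rw [map_smul, hd, ← mul_smul, hua]⟩
      obtain ⟨α, hα⟩ := hN n hn y hy ha
      obtain ⟨v, hv⟩ := hu
      refine ⟨(↑v⁻¹ : X.presheaf.stalk y) • α, hinj n ?_⟩
      rw [← stalkLin_comp_apply, Subobject.ofLE_arrow, map_smul, hα, hd, ← hua, ← hv, mul_smul, ← mul_smul,
        Units.inv_mul, one_smul]
    · exact ⟨0, hinj n ((stalk_gen_eq_zero V hy _).trans (stalk_gen_eq_zero V hy _).symm)⟩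
  exact Subobject.le_of_comm (inv (Subobject.ofLE (c N) (c n) hle)) (by rw [IsIso.inv_comp_eq, Subobject.ofLE_arrow])

/-- `j_! O` for an open immersion is the one of its image. -/
theorem nonempty_extZeroUnit_iso {U : Scheme.{u}} (j : U ⟶ X) [IsOpenImmersion j] :
    Nonempty (CxOX.extZeroUnit j.opensRange.ι ≅ CxOX.extZeroUnit j) := by
  let V := j.opensRange
  let L := CxOX.extZeroUnit j
  let L' := CxOX.extZeroUnit V.ι
  have hV : j ''ᵁ ⊤ = V := j.image_top_eq_opensRange
  let e : Γ(L, V) := mres L hV.ge (((CxOX.extZeroAdj j).unit.app (Coh.structureModule U)).app ⊤ (M1.one ⊤))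
  have he : ∀ {M : X.Modules} {f g : L ⟶ M}, f.app V e = g.app V e → f = g := by
    intro M f g h
    apply ((CxOX.extZeroAdj j).homEquiv _ _).injective
    apply M1.unit_hom_ext
    rw [Adjunction.homEquiv_unit, Adjunction.homEquiv_unit]
    have hnat : ∀ φ : L ⟶ M, φ.app V e =
        mres M hV.ge (φ.app (j ''ᵁ ⊤) (((CxOX.extZeroAdj j).unit.app (Coh.structureModule U)).app ⊤ (M1.one ⊤))) :=
      fun φ => NatTrans.naturality_apply φ.mapPresheaf (homOfLE hV.ge).op _
    rw [hnat, hnat] at h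
    have h2 := congrArg (mres M hV.le) h
    rw [mres_mres, mres_mres, mres_id, mres_id] at h2
    exact h2
  have he' : ∀ {M : X.Modules} {f g : L' ⟶ M}, f.app V (gen V) = g.app V (gen V) → f = g := by
    intro M f g h
    apply ((CxOX.extZeroAdj V.ι).homEquiv _ _).injective
    apply M1.unit_hom_ext
    rw [Adjunction.homEquiv_unit, Adjunction.homEquiv_unit]
    have hnat : ∀ φ : L' ⟶ M, φ.app V (gen V) = mres M (M1.image_ι_top V).ge
        (φ.app (V.ι ''ᵁ ⊤) (((CxOX.extZeroAdj V.ι).unit.app (Coh.structureModule (V : Scheme.{u}))).app ⊤ (M1.one ⊤))) :=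
      fun φ => NatTrans.naturality_apply φ.mapPresheaf (homOfLE (M1.image_ι_top V).ge).op _
    rw [hnat, hnat] at h
    have h2 := congrArg (mres M (M1.image_ι_top V).le) h
    rw [mres_mres, mres_mres, mres_id, mres_id] at h2
    exact h2
  obtain ⟨a, ha⟩ := exists_hom_gen V e
  let m : Γ((Scheme.Modules.restrictFunctor j).obj L', ⊤) := mres L' hV.le (gen V)
  let b : L ⟶ L' := ((CxOX.extZeroAdj j).homEquiv _ _).symm (M1.secHom m)
  have hb : b.app V e = gen V := by
    have h := Equiv.apply_symm_apply ((CxOX.extZeroAdj j).homEquiv (Coh.structureModule U) L') (M1.secHom m)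
    rw [Adjunction.homEquiv_unit] at h
    have h1 := congrArg (fun f => Scheme.Modules.Hom.app f ⊤ (M1.one ⊤)) h
    simp only [M1.secHom_app_one] at h1
    refine (NatTrans.naturality_apply b.mapPresheaf (homOfLE hV.ge).op _).trans ?_
    refine (congrArg (mres L' hV.ge) h1).trans ?_
    exact (mres_mres L' _ _ (gen V)).trans (mres_id L' _ (gen V))
  refine ⟨⟨a, b, he' ?_, he ?_⟩⟩
  · rw [Scheme.Modules.Hom.comp_app]
    exact (congrArg (b.app V) ha).trans hb
  · rw [Scheme.Modules.Hom.comp_app]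
    exact (congrArg (a.app V) hb).trans ha

/-- Chains of submodules of `j_! O_U` stabilise for affine `U`. -/
theorem chain_stabilizes_affine [IsLocallyNoetherian X] {U : Scheme.{u}} [IsAffine U] (j : U ⟶ X) [IsOpenImmersion j]
    (c : ℕ →o Subobject (CxOX.extZeroUnit j)) : ∃ n, ∀ m, n ≤ m → c n = c m := by
  obtain ⟨e⟩ := nonempty_extZeroUnit_iso j
  let φ := Subobject.mapIsoToOrderIso e.symm
  obtain ⟨N, hN⟩ := chain_stabilizes (isAffineOpen_opensRange j) ⟨fun n => φ (c n), φ.monotone.comp c.monotone⟩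
  exact ⟨N, fun m hm => φ.injective (hN m hm)⟩

end Groth.Agent.InjMod
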