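import Groth.Agent.Lib.InjMod.GenSum
import Groth.Agent.Lib.KFlat.Scheme
import Groth.Prelude.Def_DCoh4

/-!
# `Hom(F, I)` is flasque for an injective module `I`
-/

set_option autoImplicit false
set_option linter.style.haveILetI false
set_option backward.isDefEq.respectTransparency false
set_option backward.isDefEq.respectTransparency.types false

universe u

open CategoryTheory CategoryTheory.Limits AlgebraicGeometry TopologicalSpace Opposite

namespace Groth.Agent.InjMod

open Groth.Agent M1 CurveCoh17

variable {X : Scheme.{u}}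

/-- The inclusion `j_! O_U → j_! O_V` tensored with any module is a monomorphism. -/
theorem mono_tensor_gen {U V : X.Opens} (hUV : U ≤ V) (F : X.Modules)
    (w : CxOX.extZeroUnit U.ι ⟶ CxOX.extZeroUnit V.ι) (hw : w.app U (gen U) = mres _ hUV (gen V)) :
    Mono (((DCoh.tensorBi (X := X)).obj F).map w) := by
  refine (KFlat.Sch.mono_iff_stalk _).2 fun y => (KFlat.Sch.injective_stalk_tensor_iff F w y).2 ?_
  by_cases hy : y ∈ U
  · have hgen : stalkLin w y ((CxOX.extZeroUnit U.ι).presheaf.germ U y hy (gen U)) =
        ((CxOX.extZeroUnit V.ι).presheaf.germ V y (hUV hy) (gen V) : (CxOX.extZeroUnit V.ι).presheaf.stalk y) := by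
      rw [stalkLin_apply, M1.germ_naturality, hw, M1.germ_mres]
    have hbij : Function.Bijective (stalkLin w y) := by
      refine ⟨(injective_iff_map_eq_zero _).2 fun a ha => ?_, fun b => ?_⟩
      · obtain ⟨c, rfl⟩ := exists_smul_gen U hy a
        rw [map_smul, hgen] at ha
        rw [smul_gen_eq_zero V (hUV hy) c ha, zero_smul]
      · obtain ⟨c, rfl⟩ := exists_smul_gen V (hUV hy) b
        exact ⟨c • _, by rw [map_smul, hgen]⟩
    exact (LinearEquiv.lTensor _ (LinearEquiv.ofBijective _ (show Function.Bijective _ from hbij))).injective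
  · suffices h0 : ∀ z : TensorProduct (X.presheaf.stalk y) (M2.st (M2.pm F) y)
        (M2.st ((M2.pmF X).obj (CxOX.extZeroUnit U.ι)) y), z = 0 from fun a b _ => (h0 a).trans (h0 b).symm
    intro z
    induction z using TensorProduct.induction_on with
    | zero => rfl
    | tmul p q => exact (congrArg (TensorProduct.tmul _ p) (stalk_gen_eq_zero U hy q)).trans (TensorProduct.tmul_zero _ p)
    | add p q hp hq => rw [hp, hq, add_zero]

/-- `Hom(F, I)` has surjective restrictions when `I` is injective. -/
theorem surjective_mres_sheafHom (F I : X.Modules) [DCoh.HasSheafHom F] [Injective I] {U V : X.Opens} (hUV : U ≤ V)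
    (σ : Γ((DCoh.sheafHom F).obj I, U)) : ∃ t, mres ((DCoh.sheafHom F).obj I) hUV t = σ := by
  obtain ⟨w, hw⟩ := exists_hom_gen U (mres (CxOX.extZeroUnit V.ι) hUV (gen V))
  obtain ⟨k, hk⟩ := exists_hom_gen U σ
  haveI := mono_tensor_gen hUV F w hw
  let adj := DCoh.sheafHomAdj F
  let e := Injective.factorThru ((adj.homEquiv _ _).symm k) (((DCoh.tensorBi (X := X)).obj F).map w)
  let K := adj.homEquiv _ _ e
  have hK : w ≫ K = k := by
    rw [← adj.homEquiv_naturality_left, Injective.comp_factorThru, Equiv.apply_symm_apply]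
  refine ⟨K.app V (gen V), ?_⟩
  have h1 : (w ≫ K).app U (gen U) = σ := by rw [hK, hk]
  rw [Scheme.Modules.Hom.comp_app] at h1
  change K.app U (w.app U (gen U)) = σ at h1
  rw [hw] at h1
  exact (NatTrans.naturality_apply K.mapPresheaf (homOfLE hUV).op (gen V)).symm.trans h1

end Groth.Agent.InjMod
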