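import Groth.Agent.Lib.InjMod.GenSum
import Mathlib.CategoryTheory.Preadditive.Injective.Basic
import Mathlib.CategoryTheory.Abelian.Basic

/-!
# Sums of injective modules on locally Noetherian schemes are injective
-/

set_option autoImplicit false
set_option linter.style.haveILetI false
set_option backward.isDefEq.respectTransparency false
set_option backward.isDefEq.respectTransparency.types false
set_option maxHeartbeats 1000000

universe u

open CategoryTheory CategoryTheory.Limits AlgebraicGeometry TopologicalSpace Opposite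

namespace Groth.Agent.InjMod

open Groth.Agent M1 CurveCoh17

variable {X : Scheme.{u}} {κ : Type u} (M : κ → X.Modules)

/-- A finite partial sum. -/
noncomputable abbrev partSum (S : Finset κ) : X.Modules := ∐ fun i : S => M i.1

/-- The inclusion of a finite partial sum. -/
noncomputable def incPart (S : Finset κ) : partSum M S ⟶ ∐ M := Sigma.desc fun i => Sigma.ι M i.1

open scoped Classical in
/-- The projection to a finite partial sum. -/
noncomputable def projPart (S : Finset κ) : (∐ M) ⟶ partSum M S :=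
  Sigma.desc fun i => if h : i ∈ S then Sigma.ι (fun j : S => M j.1) ⟨i, h⟩ else 0

theorem incPart_projPart (S : Finset κ) : incPart M S ≫ projPart M S = 𝟙 _ := by
  refine Sigma.hom_ext _ _ fun i => ?_
  simp [incPart, projPart, i.2]

theorem injective_partSum (hM : ∀ i, Injective (M i)) (S : Finset κ) : Injective (partSum M S) := by
  haveI := Abelian.hasFiniteBiproducts (C := X.Modules)
  haveI : ∀ i : S, Injective (M i.1) := fun i => hM i.1
  exact Injective.of_iso (biproduct.isoCoproduct fun i : S => M i.1) inferInstance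

theorem range_incPart_mono {S T : Finset κ} (h : S ⊆ T) (x : X) :
    LinearMap.range (stalkLin (incPart M S) x) ≤ LinearMap.range (stalkLin (incPart M T) x) := by
  have e : incPart M S = Sigma.desc (fun i : S => Sigma.ι (fun j : T => M j.1) ⟨i.1, h i.2⟩) ≫ incPart M T :=
    Sigma.hom_ext _ _ fun i => by simp [incPart]
  rintro _ ⟨a, rfl⟩
  rw [e, stalkLin_comp_apply]
  exact ⟨_, rfl⟩

/-- Every stalk element lies in a finite partial sum. -/
theorem exists_mem_range_incPart (x : X) (a : (∐ M).presheaf.stalk x) :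
    ∃ S : Finset κ, a ∈ LinearMap.range (stalkLin (incPart M S) x) := by
  obtain ⟨S, hS⟩ := exists_finset_mem_stalk_ι M x a
  refine ⟨S, (iSup₂_le fun i hi => ?_ : _ ≤ LinearMap.range (stalkLin (incPart M S) x)) hS⟩
  rintro _ ⟨b, rfl⟩
  refine ⟨stalkLin (Sigma.ι (fun j : S => M j.1) ⟨i, hi⟩) x b, ?_⟩
  rw [← stalkLin_comp_apply]
  simp [incPart]

theorem projPart_incPart_apply (S : Finset κ) (x : X) {a : (∐ M).presheaf.stalk x}
    (ha : a ∈ LinearMap.range (stalkLin (incPart M S) x)) :
    stalkLin (projPart M S ≫ incPart M S) x a = a := by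
  obtain ⟨b, rfl⟩ := ha
  rw [← stalkLin_comp_apply, ← Category.assoc, incPart_projPart, Category.id_comp]

/-- A section lies in one finite partial sum near each point. -/
theorem exists_nhd_range_incPart {V : X.Opens} (n : Γ(∐ M, V)) {x : X} (hx : x ∈ V) :
    ∃ (S : Finset κ) (W : X.Opens) (_ : x ∈ W) (hWV : W ≤ V),
      ∀ (y : X) (hy : y ∈ W), (∐ M).presheaf.germ V y (hWV hy) n ∈ LinearMap.range (stalkLin (incPart M S) y) := by
  obtain ⟨S, b, hb⟩ := exists_mem_range_incPart M x ((∐ M).presheaf.germ V x hx n)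
  obtain ⟨W₀, hW₀, t, rfl⟩ := (partSum M S).presheaf.exists_germ_eq b
  rw [stalkLin_apply, M1.germ_naturality] at hb
  obtain ⟨W, hxW, i₁, i₂, he⟩ := (∐ M).presheaf.germ_eq x hW₀ hx _ _ hb
  refine ⟨S, W, hxW, i₂.le, fun y hy => ⟨(partSum M S).presheaf.germ W₀ y (i₁.le hy) t, ?_⟩⟩
  rw [stalkLin_apply, M1.germ_naturality]
  have h1 := congrArg ((∐ M).presheaf.germ W y hy) he
  rwa [TopCat.Presheaf.germ_res_apply, TopCat.Presheaf.germ_res_apply] at h1

/-- A family of germs which is locally a section lies in one finite partial sum over a quasi-compact open. -/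
theorem exists_finset_of_isCompact {V : X.Opens} (hV : IsCompact (V : Set X))
    (γ : ∀ y : X, y ∈ V → (∐ M).presheaf.stalk y)
    (h : ∀ x ∈ V, ∃ (W : X.Opens) (_ : x ∈ W) (n : Γ(∐ M, W)),
      ∀ (y : X) (hy : y ∈ W) (hyV : y ∈ V), (∐ M).presheaf.germ W y hy n = γ y hyV) :
    ∃ S : Finset κ, ∀ (y : X) (hy : y ∈ V), γ y hy ∈ LinearMap.range (stalkLin (incPart M S) y) := by
  classical
  choose W hxW n hn using h
  choose S O hxO hOW hO using fun x : V => exists_nhd_range_incPart M (n x.1 x.2) (hxW x.1 x.2)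
  obtain ⟨t, ht⟩ := hV.elim_finite_subcover (fun x : V => (O x : Set X)) (fun x => (O x).2)
    fun y hy => Set.mem_iUnion.2 ⟨⟨y, hy⟩, hxO ⟨y, hy⟩⟩
  refine ⟨t.biUnion S, fun y hy => ?_⟩
  obtain ⟨x, hxt, hyx⟩ := Set.mem_iUnion₂.1 (ht hy)
  rw [← hn x.1 x.2 y (hOW x hyx) hy]
  exact range_incPart_mono M (Finset.subset_biUnion_of_mem S hxt) y (hO x y hyx)

/-- Sums of injective modules on a locally Noetherian scheme are injective. -/
theorem injective_coproduct [IsLocallyNoetherian X] (hM : ∀ i, Injective (M i)) : Injective (∐ M) := by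
  classical
  refine injective_of_forall_extend.{u} (∐ M) fun {A B} i hmono g hi => ?_
  obtain ⟨U, hU, s, q, hq, hbad, hs⟩ := exists_good_open i hi
  haveI : IsNoetherianRing Γ(X, U) := IsLocallyNoetherian.component_noetherian ⟨U, hU⟩
  have hinj_i : ∀ y, Function.Injective (stalkLin i y) := fun y => (M1.mono_iff_stalk i).1 hmono y
  -- the value of `g` at `a s`
  obtain ⟨φ, hφ⟩ : ∃ φ : ∀ (y : X) (hy : y ∈ U) (a : Γ(X, U)), a ∈ colonAt i s y hy →
      (∐ M).presheaf.stalk y, ∀ {y : X} {hy : y ∈ U} {a : Γ(X, U)} (ha : a ∈ colonAt i s y hy)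
        (α : A.presheaf.stalk y),
        stalkLin i y α = X.presheaf.germ U y hy a • (B.presheaf.germ U y hy s : B.presheaf.stalk y) →
        stalkLin g y α = φ y hy a ha :=
    ⟨fun y hy a ha => stalkLin g y ha.choose, fun {y hy a} ha α h =>
      congrArg (stalkLin g y) (hinj_i y (h.trans ha.choose_spec.symm))⟩
  have hcont : ∀ {a : Γ(X, U)} (V : X.Opens) (hVU : V ≤ U)
      (hmem : ∀ (y : X) (hy : y ∈ V), a ∈ colonAt i s y (hVU hy)) (x : X) (_ : x ∈ V),
      ∃ (W : X.Opens) (_ : x ∈ W) (n : Γ(∐ M, W)), ∀ (y : X) (hy : y ∈ W) (hyV : y ∈ V),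
        (∐ M).presheaf.germ W y hy n = φ y (hVU hyV) a (hmem y hyV) := by
    intro a V hVU hmem x hx
    obtain ⟨O, hxO, hOU, σ, hσ⟩ := colonAt_witness i s (hmem x hx)
    refine ⟨O, hxO, g.app O σ, fun y hy hyV => ?_⟩
    rw [← hφ (hmem y hyV) _ (hσ y hy), stalkLin_apply, M1.germ_naturality]
  -- finitely many summands see all values
  let Wset : Set X := {y | ∃ hy : y ∈ U, colonAt i s y hy = ⊤}
  have hWopen : IsOpen Wset := isOpen_iff_forall_mem_open.2 fun y ⟨hy, htop⟩ => by
    obtain ⟨O, hyO, hOU, σ, hσ⟩ := colonAt_witness i s (show (1 : Γ(X, U)) ∈ colonAt i s y hy by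
      rw [htop]; exact Submodule.mem_top)
    exact ⟨O, fun z hz => ⟨hOU hz, (Ideal.eq_top_iff_one _).2 ⟨_, hσ z hz⟩⟩, O.2, hyO⟩
  haveI : IsAffine (U : Scheme.{u}) := hU
  haveI : AlgebraicGeometry.IsNoetherian (U : Scheme.{u}) := {}
  haveI hnU : NoetherianSpace (U : Scheme.{u}) := inferInstance
  have hWc : IsCompact Wset := by
    have h1 := NoetherianSpace.isCompact (U.ι ⁻¹' Wset)
    have h2 := h1.image U.ι.continuous
    rwa [Set.image_preimage_eq_of_subset (by
      rintro y ⟨hy, -⟩
      exact ⟨⟨y, hy⟩, rfl⟩)] at h2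
  obtain ⟨S₁, hS₁⟩ := exists_finset_of_isCompact M (V := ⟨Wset, hWopen⟩) hWc
    (fun y hy => φ y hy.1 1 (by rw [hy.2]; exact Submodule.mem_top))
    (fun x hx => hcont ⟨Wset, hWopen⟩ (fun y hy => hy.1) (fun y hy => by rw [hy.2]; exact Submodule.mem_top) x hx)
  let I : Ideal Γ(X, U) := ⨅ (y : X) (hy : y ∈ U), colonAt i s y hy
  have hI : ∀ {a}, a ∈ I → ∀ (y : X) (hy : y ∈ U), a ∈ colonAt i s y hy := fun {a} ha y hy =>
    (Submodule.mem_iInf _).1 ((Submodule.mem_iInf _).1 ha y) hy
  obtain ⟨gens, hgens⟩ := (_root_.IsNoetherian.noetherian I : I.FG)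
  have hgen : ∀ a : gens, ∃ S : Finset κ, ∀ (y : X) (hy : y ∈ U),
      φ y hy a.1 (hI (hgens.le (Ideal.subset_span a.2)) y hy) ∈ LinearMap.range (stalkLin (incPart M S) y) :=
    fun a => exists_finset_of_isCompact M hU.isCompact _
      (fun x hx => hcont U le_rfl (hI (hgens.le (Ideal.subset_span a.2))) x hx)
  choose S₂ hS₂ using hgen
  obtain ⟨S, hS₁S, hS₂S⟩ : ∃ S : Finset κ, S₁ ⊆ S ∧ ∀ a, S₂ a ⊆ S :=
    ⟨S₁ ∪ Finset.univ.biUnion S₂, Finset.subset_union_left, fun a =>
      (Finset.subset_biUnion_of_mem S₂ (Finset.mem_univ a)).trans Finset.subset_union_right⟩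
  have hval : ∀ (y : X) (hy : y ∈ U) (α : A.presheaf.stalk y) (c : X.presheaf.stalk y),
      stalkLin i y α = c • (B.presheaf.germ U y hy s : B.presheaf.stalk y) →
      stalkLin g y α ∈ LinearMap.range (stalkLin (incPart M S) y) := by
    intro y hy α c hα
    obtain ⟨a, v, hv, hva⟩ := exists_eq_mul_germ hU hy c
    have hαa : stalkLin i y (X.presheaf.germ U y hy v • α) =
        X.presheaf.germ U y hy a • (B.presheaf.germ U y hy s : B.presheaf.stalk y) := by
      rw [map_smul, hα, ← mul_smul, hva]
    have ha : a ∈ colonAt i s y hy := ⟨_, hαa⟩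
    suffices h : φ y hy a ha ∈ LinearMap.range (stalkLin (incPart M S) y) by
      rw [← hφ ha _ hαa, map_smul] at h
      obtain ⟨u, hu⟩ := hv
      rw [← hu] at h
      have := Submodule.smul_mem _ (↑u⁻¹ : X.presheaf.stalk y) h
      rwa [← mul_smul, Units.inv_mul, one_smul] at this
    rcases hs y hy with htop | hle
    · have h1 : (1 : Γ(X, U)) ∈ colonAt i s y hy := by rw [htop]; exact Submodule.mem_top
      rw [← hφ ha (X.presheaf.germ U y hy a • h1.choose) (by
        rw [map_smul, h1.choose_spec, map_one, one_smul]), map_smul]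
      exact Submodule.smul_mem _ _ (range_incPart_mono M hS₁S y ((hφ h1 h1.choose h1.choose_spec).symm ▸ hS₁ y ⟨hy, htop⟩))
    · have haI : a ∈ I := (Submodule.mem_iInf _).2 fun w => (Submodule.mem_iInf _).2 fun hw => hle a ha w hw
      have key : ∀ b ∈ I, ∀ hb : b ∈ colonAt i s y hy,
          φ y hy b hb ∈ LinearMap.range (stalkLin (incPart M S) y) := by
        intro b hbI
        have hb : b ∈ Submodule.span Γ(X, U) (gens : Set Γ(X, U)) := hgens.ge hbI
        clear hbI
        induction hb using Submodule.span_induction with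
        | mem b hb =>
          intro _
          exact range_incPart_mono M (hS₂S ⟨b, hb⟩) y (hS₂ ⟨b, hb⟩ y hy)
        | zero =>
          intro h
          rw [← hφ h 0 (by rw [map_zero, map_zero, zero_smul]), map_zero]
          exact Submodule.zero_mem _
        | add b b' hb hb' ihb ihb' =>
          intro h
          have m1 : b ∈ colonAt i s y hy := hI (hgens.le hb) y hy
          have m2 : b' ∈ colonAt i s y hy := hI (hgens.le hb') y hy
          rw [← hφ h (m1.choose + m2.choose) (by rw [map_add, m1.choose_spec, m2.choose_spec, map_add, add_smul]),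
            map_add]
          rw [hφ m1 _ m1.choose_spec, hφ m2 _ m2.choose_spec]
          exact Submodule.add_mem _ (ihb m1) (ihb' m2)
        | smul r b hb ihb =>
          intro h
          have m1 : b ∈ colonAt i s y hy := hI (hgens.le hb) y hy
          rw [← hφ h (X.presheaf.germ U y hy r • m1.choose) (by
            rw [map_smul, m1.choose_spec, smul_eq_mul, map_mul, mul_smul]), map_smul]
          rw [hφ m1 _ m1.choose_spec]
          exact Submodule.smul_mem _ _ (ihb m1)
      exact key a haI ha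
  obtain ⟨w, hw⟩ := exists_hom_gen U s
  have hfix : (pullback.fst i w ≫ g ≫ projPart M S) ≫ incPart M S = pullback.fst i w ≫ g := by
    refine Scheme.Modules.hom_ext _ _ fun V => ?_
    ext p
    refine M1.section_ext _ _ fun y hy => ?_
    rw [← M1.germ_naturality, ← M1.germ_naturality, ← stalkLin_apply, ← stalkLin_apply]
    let π := (pullback i w).presheaf.germ V y hy p
    rw [show (pullback.fst i w ≫ g ≫ projPart M S) ≫ incPart M S =
      (pullback.fst i w ≫ g) ≫ (projPart M S ≫ incPart M S) by simp only [Category.assoc], stalkLin_comp_apply]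
    refine projPart_incPart_apply M S y ?_
    rw [stalkLin_comp_apply]
    have hsq : stalkLin i y (stalkLin (pullback.fst i w) y π) = stalkLin w y (stalkLin (pullback.snd i w) y π) := by
      rw [← stalkLin_comp_apply, ← stalkLin_comp_apply, pullback.condition]
    by_cases hyU : y ∈ U
    · obtain ⟨c, hc⟩ := exists_smul_gen U hyU (stalkLin (pullback.snd i w) y π)
      rw [hc, map_smul, stalkLin_apply w, M1.germ_naturality, hw] at hsq
      exact hval y hyU _ c hsq
    · rw [stalk_gen_eq_zero U hyU (stalkLin (pullback.snd i w) y π), map_zero] at hsq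
      rw [hinj_i y (hsq.trans (map_zero _).symm), map_zero]
      exact Submodule.zero_mem _
  haveI := injective_partSum M hM S
  haveI : Mono (pullback.snd i w) := inferInstance
  refine exists_larger_of_hom i g U s hq hbad w hw
    (Injective.factorThru (pullback.fst i w ≫ g ≫ projPart M S) (pullback.snd i w) ≫ incPart M S) ?_
  rw [← Category.assoc, Injective.comp_factorThru, hfix]

end Groth.Agent.InjMod
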