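import Groth.Agent.Lib.ModM1.Stalk
import Groth.Agent.Lib.ModM1.Exact
import Groth.Agent.Lib.RefHull26.Glue
import Groth.Agent.Lib.CurveCoh17.TensorExact
import Groth.Agent.Lib.InjHull.Torsion
import Mathlib.RingTheory.LocalProperties.Injective

/-!
# Extending partial morphisms into a quasi-coherent module with injective sections, over an affine open
-/

set_option autoImplicit false
set_option linter.style.haveILetI false
set_option backward.isDefEq.respectTransparency false
set_option backward.isDefEq.respectTransparency.types false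

universe u

open CategoryTheory CategoryTheory.Limits AlgebraicGeometry TopologicalSpace Opposite

namespace Groth.Agent.InjMod

open Groth.Agent M1 CurveCoh17 InjHullLib

variable {X : Scheme.{u}}

/-- The points of `U` where `J` does not vanish. -/
def nonVanish {U : X.Opens} (J : Ideal Γ(X, U)) : X.Opens := ⨆ r : J, X.basicOpen (r : Γ(X, U))

theorem nonVanish_le {U : X.Opens} (J : Ideal Γ(X, U)) : nonVanish J ≤ U :=
  iSup_le fun r => X.basicOpen_le r.1

theorem mem_nonVanish_iff {U : X.Opens} (J : Ideal Γ(X, U)) {y : X} :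
    y ∈ nonVanish J ↔ ∃ r ∈ J, y ∈ X.basicOpen r := by
  simp [nonVanish, Opens.mem_iSup]

/-- A submodule of sections containing all large powers of the elements of `J` contains a power of `J`. -/
theorem exists_pow_le_of_forall {R : Type u} [CommRing R] [IsNoetherianRing R] (J Q : Ideal R)
    (h : ∀ r ∈ J, ∃ n : ℕ, r ^ n ∈ Q) : ∃ n : ℕ, J ^ n ≤ Q :=
  Ideal.exists_pow_le_of_le_radical_of_fg_radical h (IsNoetherian.noetherian _)

variable (F : X.Modules) [Coh.IsQCoh F] {U : X.Opens} (hU : IsAffineOpen U) [IsNoetherianRing Γ(X, U)]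
  (J : Ideal Γ(X, U))

include hU in
theorem mres_eq_zero_iff (x : Γ(F, U)) :
    mres F (nonVanish_le J) x = 0 ↔ x ∈ powTors J Γ(F, U) := by
  constructor
  · intro hx
    obtain ⟨n, hn⟩ := exists_pow_le_of_forall J (LinearMap.ker (LinearMap.toSpanSingleton Γ(X, U) Γ(F, U) x))
      fun r hr => by
        obtain ⟨k, hk⟩ := exists_pow_smul_eq_zero_affine F hU r x (by
          have hle : X.basicOpen r ≤ nonVanish J := le_iSup (fun r : J => X.basicOpen r.1) ⟨r, hr⟩
          rw [← mres_mres F (nonVanish_le J) hle, hx, map_zero])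
        exact ⟨k, hk⟩
    exact mem_powTors_iff.2 ⟨n, fun r hr => hn hr⟩
  · intro hx
    obtain ⟨n, hn⟩ := mem_powTors_iff.1 hx
    refine M1.section_ext _ _ fun y hy => ?_
    obtain ⟨r, hr, hyr⟩ := (mem_nonVanish_iff J).1 hy
    have hyU := nonVanish_le J hy
    have h1 := congrArg (F.presheaf.germ U y hyU) (hn (r ^ n) (Ideal.pow_mem_pow hr n))
    rw [germ_smul, map_zero, map_pow] at h1
    rw [germ_mres, map_zero]
    exact (((X.mem_basicOpen r y hyU).1 hyr).pow n).smul_eq_zero.1 h1

include hU in
/-- Every section over `nonVanish J` is, up to a power of `J`, the restriction of a section over `U`. -/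
theorem exists_pow_smul_mem_range (τ : Γ(F, nonVanish J)) :
    ∃ n : ℕ, ∀ r ∈ J ^ n, ∃ t : Γ(F, U), mres F (nonVanish_le J) t = ores (nonVanish_le J) r • τ := by
  let Q : Ideal Γ(X, U) :=
    { carrier := {r | ∃ t : Γ(F, U), mres F (nonVanish_le J) t = ores (nonVanish_le J) r • τ}
      zero_mem' := ⟨0, by rw [map_zero, map_zero, zero_smul]⟩
      add_mem' := by
        rintro a b ⟨s, hs⟩ ⟨t, ht⟩
        exact ⟨s + t, by rw [map_add, map_add, add_smul, hs, ht]⟩
      smul_mem' := by
        rintro c a ⟨s, hs⟩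
        exact ⟨c • s, by rw [mres_smul, hs, smul_eq_mul, map_mul, mul_smul]⟩ }
  refine exists_pow_le_of_forall J Q fun r hr => ?_
  have hle : X.basicOpen r ≤ nonVanish J := le_iSup (fun r : J => X.basicOpen r.1) ⟨r, hr⟩
  obtain ⟨k, t₀, ht₀⟩ := exists_pow_smul_eq_res_affine F hU r (mres F hle τ)
  -- the defect is killed by a power of `r` at every generator of `J`
  classical
  obtain ⟨S, hS⟩ := (IsNoetherian.noetherian J : J.FG)
  have hsJ : ∀ s ∈ S, s ∈ J := fun s hs => hS ▸ Ideal.subset_span hs
  let d : Γ(F, nonVanish J) := mres F (nonVanish_le J) t₀ - ores (nonVanish_le J) (r ^ k) • τ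
  have hd : mres F hle d = 0 := by
    simp only [d, map_sub]
    rw [mres_mres, mres_smul, ores_ores, ht₀, map_pow, sub_self]
  have hkill : ∀ s ∈ S, ∃ n : ℕ, ∀ (y : X) (hy : y ∈ nonVanish J), y ∈ X.basicOpen s →
      X.presheaf.germ U y (nonVanish_le J hy) r ^ n • F.presheaf.germ (nonVanish J) y hy d = 0 := by
    intro s hs
    have hles : X.basicOpen s ≤ nonVanish J := le_iSup (fun r : J => X.basicOpen r.1) ⟨s, hsJ s hs⟩
    obtain ⟨n, hn⟩ := exists_pow_smul_eq_zero_affine F (hU.basicOpen s) (ores (X.basicOpen_le s) r)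
      (mres F hles d) (by
        have hle2 : X.basicOpen (ores (X.basicOpen_le s) r) ≤ X.basicOpen r := by
          rw [Scheme.basicOpen_res]; exact inf_le_right
        rw [mres_mres, ← mres_mres F hle hle2, hd, map_zero])
    refine ⟨n, fun y hy hys => ?_⟩
    have h1 := congrArg (F.presheaf.germ (X.basicOpen s) y hys) hn
    rw [germ_smul, map_zero, map_pow, TopCat.Presheaf.germ_res_apply, germ_mres] at h1
    exact h1
  choose! N hN using hkill
  refine ⟨(S.sup N) + k, r ^ (S.sup N) • t₀, M1.section_ext _ _ fun y hy => ?_⟩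
  have hyU := nonVanish_le J hy
  obtain ⟨a, ha, hya⟩ := (mem_nonVanish_iff J).1 hy
  obtain ⟨s, hs, hys⟩ : ∃ s ∈ S, y ∈ X.basicOpen s := by
    by_contra hne
    push Not at hne
    refine (X.mem_basicOpen a y hyU).1 hya |> fun hu => ?_
    have hmax : ∀ b ∈ J, X.presheaf.germ U y hyU b ∈ IsLocalRing.maximalIdeal (X.presheaf.stalk y) := by
      intro b hb
      rw [← hS] at hb
      induction hb using Submodule.span_induction with
      | mem b hb =>
        rw [IsLocalRing.mem_maximalIdeal, mem_nonunits_iff]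
        exact fun hub => hne b hb ((X.mem_basicOpen b y hyU).2 hub)
      | zero => rw [map_zero]; exact Ideal.zero_mem _
      | add b c _ _ hb hc => rw [map_add]; exact Ideal.add_mem _ hb hc
      | smul c b _ hb => rw [smul_eq_mul, map_mul]; exact Ideal.mul_mem_left _ _ hb
    exact (IsLocalRing.mem_maximalIdeal _).1 (hmax a ha) hu
  have h1 := hN s hs y hy hys
  have h2 : X.presheaf.germ U y hyU r ^ (S.sup N) • F.presheaf.germ (nonVanish J) y hy d = 0 := by
    rw [← Nat.sub_add_cancel (Finset.le_sup hs : N s ≤ S.sup N), pow_add, mul_smul, h1, smul_zero]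
  simp only [d, map_sub, smul_sub, sub_eq_zero] at h2
  rw [germ_mres, germ_smul, TopCat.Presheaf.germ_res_apply, ← mul_smul, map_pow, ← pow_add] at h2
  rw [germ_mres, germ_smul, germ_smul, TopCat.Presheaf.germ_res_apply, map_pow, map_pow]
  exact h2

include hU in
/-- If the sections form an injective module, they surject onto the sections over `nonVanish J`. -/
theorem surjective_mres_nonVanish (hinj : Module.Injective Γ(X, U) Γ(F, U)) :
    Function.Surjective (mres F (nonVanish_le J)) := by
  intro τ
  haveI hT : Module.Injective Γ(X, U) (powTors J Γ(F, U)) := injective_powTors hinj J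
  obtain ⟨ret, hret⟩ := hT.out (powTors J Γ(F, U)).subtype (powTors J Γ(F, U)).injective_subtype LinearMap.id
  let σ : Γ(F, U) →ₗ[Γ(X, U)] Γ(F, U) := LinearMap.id - (powTors J Γ(F, U)).subtype ∘ₗ ret
  have hσ : ∀ t, mres F (nonVanish_le J) (σ t) = mres F (nonVanish_le J) t := fun t => by
    have h : mres F (nonVanish_le J) (ret t : Γ(F, U)) = 0 := (mres_eq_zero_iff F hU J _).2 (ret t).2
    simp only [σ, LinearMap.sub_apply, LinearMap.id_apply, LinearMap.comp_apply, Submodule.subtype_apply]
    rw [map_sub, h, sub_zero]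
  have hσ' : ∀ t t', mres F (nonVanish_le J) t = mres F (nonVanish_le J) t' → σ t = σ t' := fun t t' h => by
    have hm : t - t' ∈ powTors J Γ(F, U) := (mres_eq_zero_iff F hU J _).1 (by rw [map_sub, h, sub_self])
    have he := hret ⟨t - t', hm⟩
    simp only [Submodule.subtype_apply, LinearMap.id_apply] at he
    rw [← sub_eq_zero, ← map_sub]
    simp [σ, he]
  obtain ⟨n, hn⟩ := exists_pow_smul_mem_range F hU J τ
  choose t ht using hn
  let g : ↥(J ^ n) →ₗ[Γ(X, U)] Γ(F, U) :=
    { toFun := fun r => σ (t r r.2)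
      map_add' := fun a b => by
        rw [← map_add]
        exact hσ' _ _ (by rw [map_add, ht, ht, ht, Submodule.coe_add, map_add, add_smul])
      map_smul' := fun c a => by
        rw [RingHom.id_apply, ← map_smul]
        exact hσ' _ _ (by rw [mres_smul, ht, ht, SetLike.val_smul, smul_eq_mul, map_mul, mul_smul]) }
  obtain ⟨e, he⟩ := hinj.out (J ^ n).subtype (J ^ n).injective_subtype g
  refine ⟨e 1, M1.section_ext _ _ fun y hy => ?_⟩
  obtain ⟨r, hr, hyr⟩ := (mem_nonVanish_iff J).1 hy
  have hyU := nonVanish_le J hy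
  have h1 := he ⟨r ^ n, Ideal.pow_mem_pow hr n⟩
  simp only [Submodule.subtype_apply, g, LinearMap.coe_mk, AddHom.coe_mk] at h1
  rw [show e (r ^ n) = r ^ n • e 1 by rw [← map_smul, smul_eq_mul, mul_one]] at h1
  have h2 := congrArg (fun z => F.presheaf.germ (nonVanish J) y hy (mres F (nonVanish_le J) z)) h1
  simp only [hσ, ht] at h2
  rw [germ_mres, germ_smul, germ_smul, TopCat.Presheaf.germ_res_apply, map_pow] at h2
  rw [germ_mres]
  exact (((X.mem_basicOpen r y hyU).1 hyr).pow n).smul_left_cancel.1 h2

omit [Coh.IsQCoh F] [IsNoetherianRing Γ(X, U)] in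
include hU in
/-- On an affine open an element of the local ring is a quotient of functions. -/
theorem exists_eq_mul_germ {y : X} (hy : y ∈ U) (c : X.presheaf.stalk y) :
    ∃ a u : Γ(X, U), IsUnit (X.presheaf.germ U y hy u) ∧
      X.presheaf.germ U y hy u * c = X.presheaf.germ U y hy a := by
  letI := TopCat.Presheaf.algebra_section_stalk X.presheaf (⟨y, hy⟩ : U)
  haveI := hU.isLocalization_stalk ⟨y, hy⟩
  obtain ⟨⟨a, u⟩, h⟩ := IsLocalization.surj (hU.primeIdealOf ⟨y, hy⟩).asIdeal.primeCompl c
  exact ⟨a, u.1, (M1.isUnit_germ_iff hU hy u.1).2 u.2, (mul_comm _ _).trans h⟩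

attribute [local instance] RingHomInvPair.of_ringEquiv in
/-- The stalk-injective quasi-coherent modules have injective sections over affine opens. -/
theorem injective_sections (hU : IsAffineOpen U)
    (h : ∀ x : X, Module.Injective (X.presheaf.stalk x) (F.presheaf.stalk x)) :
    Module.Injective Γ(X, U) Γ(F, U) := by
  refine Module.injective_of_localization_maximal fun P hP => ?_
  let p : PrimeSpectrum Γ(X, U) := ⟨P, hP.isPrime⟩
  let y : X := hU.fromSpec p
  have hy : y ∈ U := hU.opensRange_fromSpec.le ⟨p, rfl⟩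
  have hp : hU.primeIdealOf ⟨y, hy⟩ = p := hU.fromSpec.isOpenEmbedding.injective
    (hU.fromSpec_primeIdealOf ⟨y, hy⟩)
  letI := M1.stalkModule F hy
  letI := TopCat.Presheaf.algebra_section_stalk X.presheaf (⟨y, hy⟩ : U)
  haveI hloc : IsLocalization.AtPrime (X.presheaf.stalk y) P := by
    have := hU.isLocalization_stalk ⟨y, hy⟩
    rwa [hp] at this
  haveI hlm : IsLocalizedModule P.primeCompl (M1.germₗ F hy) := by
    have := M1.isLocalizedModule_germ F hU hy
    rwa [hp] at this
  haveI : IsScalarTower Γ(X, U) (X.presheaf.stalk y) (F.presheaf.stalk y) := IsScalarTower.of_algebraMap_smul fun _ _ => rfl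
  refine Module.Injective.of_ringEquiv (M := F.presheaf.stalk y)
    (IsLocalization.algEquiv P.primeCompl (X.presheaf.stalk y) (Localization.AtPrime P)).toRingEquiv ?_
  refine
    { __ := IsLocalizedModule.linearEquiv P.primeCompl (M1.germₗ F hy)
        (LocalizedModule.mkLinearMap P.primeCompl Γ(F, U))
      map_smul' := ?_ }
  intro r m
  obtain ⟨r, s, rfl⟩ := IsLocalization.exists_mk'_eq P.primeCompl r
  apply ((Module.End.isUnit_iff _).mp
    (IsLocalizedModule.map_units (LocalizedModule.mkLinearMap P.primeCompl Γ(F, U)) s)).1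
  dsimp
  simp only [← map_smul, ← smul_assoc, IsLocalization.smul_mk'_self, algebraMap_smul,
    IsLocalization.map_id_mk']
  simp only [AlgEquiv.commutes, map_smul]
  exact (algebraMap_smul (Localization.AtPrime P) r _).symm

end Groth.Agent.InjMod
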