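import Groth.Agent.Lib.InjMod.Step
import Groth.Agent.Lib.ModM1.Local
import Mathlib.Topology.Sober

/-!
# Submodules of the structure sheaf of a Noetherian scheme are generated by finitely many local sections
-/

set_option autoImplicit false
set_option linter.style.haveILetI false
set_option backward.isDefEq.respectTransparency false
set_option backward.isDefEq.respectTransparency.types false

universe u

open CategoryTheory CategoryTheory.Limits AlgebraicGeometry TopologicalSpace Opposite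

namespace Groth.Agent.InjMod

open Groth.Agent M1 CurveCoh17

variable {X : Scheme.{u}}

/-- The structure module is generated by `1`. -/
theorem exists_smul_one {U : X.Opens} {y : X} (hy : y ∈ U) (β : (Coh.structureModule X).presheaf.stalk y) :
    ∃ c : X.presheaf.stalk y, β = c • (Coh.structureModule X).presheaf.germ U y hy (M1.one U) := by
  obtain ⟨V, hV, r, rfl⟩ := (Coh.structureModule X).presheaf.exists_germ_eq β
  have hW : y ∈ V ⊓ U := ⟨hV, hy⟩
  refine ⟨X.presheaf.germ V y hV r, ?_⟩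
  rw [← M1.germ_mres (Coh.structureModule X) (inf_le_left : V ⊓ U ≤ V) hW r,
    ← M1.germ_mres (Coh.structureModule X) (inf_le_right : V ⊓ U ≤ U) hW,
    ← X.presheaf.germ_res_apply (homOfLE (inf_le_left : V ⊓ U ≤ V)) y hW r, ← M1.germ_smul, M1.mres_one]
  exact congrArg _ (mul_one (M1.ores (inf_le_left : V ⊓ U ≤ V) r)).symm

/-- Stalk spans of a list of sections. -/
noncomputable def stalkSpan {G : X.Modules} (L : List (Σ O : X.Opens, Γ(G, O))) (x : X) :
    Submodule (X.presheaf.stalk x) (G.presheaf.stalk x) :=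
  Submodule.span _ {β | ∃ p ∈ L, ∃ h : x ∈ p.1, β = G.presheaf.germ p.1 x h p.2}

theorem stalkSpan_mono {G : X.Modules} {L L' : List (Σ O : X.Opens, Γ(G, O))} (h : L ⊆ L') (x : X) :
    stalkSpan L x ≤ stalkSpan L' x :=
  Submodule.span_mono fun _ ⟨p, hp, hx, e⟩ => ⟨p, h hp, hx, e⟩

/-- Ideal sheaves of a Noetherian scheme have finitely many local generators. -/
theorem exists_generating_sections [AlgebraicGeometry.IsNoetherian X] (G : X.Modules)
    (ι : G ⟶ Coh.structureModule X) [Mono ι] :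
    ∃ L : List (Σ O : X.Opens, Γ(G, O)), ∀ x, stalkSpan L x = ⊤ := by
  haveI : NoetherianSpace X := inferInstance
  suffices ∀ Z : Closeds X, ∃ L : List (Σ O : X.Opens, Γ(G, O)), ∀ x ∈ Z, stalkSpan L x = ⊤ by
    obtain ⟨L, h⟩ := this ⊤
    exact ⟨L, fun x => h x trivial⟩
  intro Z
  induction Z using WellFoundedLT.induction with
  | ind Z IH =>
  by_cases hne : (Z : Set X).Nonempty
  swap
  · exact ⟨[], fun x hx => absurd ⟨x, hx⟩ hne⟩
  by_cases hirr : IsPreirreducible (Z : Set X)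
  swap
  · rw [isPreirreducible_iff_isClosed_union_isClosed] at hirr
    push Not at hirr
    obtain ⟨C₁, C₂, h₁, h₂, hsub, hn₁, hn₂⟩ := hirr
    have key : ∀ C : Set X, ∀ hC : IsClosed C, ¬ (Z : Set X) ⊆ C →
        (Z ⊓ ⟨C, hC⟩ : Closeds X) < Z := fun C hC hn => inf_le_left.lt_of_ne fun he => hn fun z hz => by
      have : z ∈ (Z ⊓ ⟨C, hC⟩ : Closeds X) := he.symm ▸ hz
      exact this.2
    obtain ⟨L₁, hL₁⟩ := IH _ (key C₁ h₁ hn₁)
    obtain ⟨L₂, hL₂⟩ := IH _ (key C₂ h₂ hn₂)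
    refine ⟨L₁ ++ L₂, fun z hz => top_le_iff.1 ?_⟩
    rcases hsub hz with h | h
    · exact (hL₁ z ⟨hz, h⟩).ge.trans (stalkSpan_mono (List.subset_append_left _ _) z)
    · exact (hL₂ z ⟨hz, h⟩).ge.trans (stalkSpan_mono (List.subset_append_right _ _) z)
  have hI : IsIrreducible (Z : Set X) := ⟨hne, hirr⟩
  let q := hI.genericPoint
  have hqg := hI.isGenericPoint_genericPoint_closure
  rw [Z.isClosed.closure_eq] at hqg
  obtain ⟨V, hV, hqV, -⟩ := exists_isAffineOpen_mem_and_subset (x := q) (U := ⊤) trivial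
  haveI : IsNoetherianRing Γ(X, V) := IsLocallyNoetherian.component_noetherian ⟨V, hV⟩
  let one : Γ(Coh.structureModule X, V) := M1.one V
  obtain ⟨gens, hgens⟩ := (_root_.IsNoetherian.noetherian (colonAt ι one q hqV) : (colonAt ι one q hqV).FG)
  choose O hqO hOV σ hσ using fun a : gens => colonAt_witness ι one (hgens.le (Ideal.subset_span a.2))
  let W : X.Opens := V ⊓ Finset.univ.inf O
  have hqW : q ∈ W := ⟨hqV, Finset.inf_induction (p := fun O : X.Opens => q ∈ O) trivial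
    (fun _ ha _ hb => ⟨ha, hb⟩) fun a _ => hqO a⟩
  have hlt : (Z ⊓ ⟨(W : Set X)ᶜ, W.2.isClosed_compl⟩ : Closeds X) < Z :=
    inf_le_left.lt_of_ne fun he => by
      have hqZ : q ∈ Z := hqg.mem
      exact ((he.symm ▸ hqZ : q ∈ (Z ⊓ ⟨(W : Set X)ᶜ, _⟩ : Closeds X))).2 hqW
  obtain ⟨L', ht⟩ := IH _ hlt
  let L₀ : List (Σ O : X.Opens, Γ(G, O)) := gens.attach.toList.map fun a => ⟨O a, σ a⟩
  refine ⟨L₀ ++ L', fun z hz => top_le_iff.1 ?_⟩
  by_cases hzW : z ∈ W
  swap
  · exact (ht z ⟨hz, hzW⟩).ge.trans (stalkSpan_mono (List.subset_append_right _ _) z)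
  refine le_trans ?_ (stalkSpan_mono (List.subset_append_left _ _) z)
  intro α _
  have hzV : z ∈ V := hzW.1
  have hzO : ∀ a, z ∈ O a := fun a => (Finset.inf_le (Finset.mem_univ a) : Finset.univ.inf O ≤ O a) hzW.2
  have hinj : Function.Injective (stalkLin ι z) := (M1.mono_iff_stalk ι).1 ‹_› z
  obtain ⟨c, hc⟩ := exists_smul_one hzV (stalkLin ι z α)
  obtain ⟨a, u, hu, hua⟩ := exists_eq_mul_germ hV hzV c
  have ha : a ∈ colonAt ι one z hzV :=
    ⟨X.presheaf.germ V z hzV u • α, by rw [map_smul, hc, ← mul_smul, hua]⟩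
  have haq : a ∈ colonAt ι one q hqV := by
    obtain ⟨O', hzO', hO'V, τ, hτ⟩ := colonAt_witness ι one ha
    exact ⟨_, hτ q ((hqg.specializes hz).mem_open O'.2 hzO')⟩
  rw [← hgens] at haq
  let S := stalkSpan L₀ z
  have key : ∃ β ∈ S, stalkLin ι z β =
      X.presheaf.germ V z hzV a • ((Coh.structureModule X).presheaf.germ V z hzV one :
        (Coh.structureModule X).presheaf.stalk z) := by
    clear ha hua
    induction haq using Submodule.span_induction with
    | mem b hb =>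
      refine ⟨_, Submodule.subset_span ⟨⟨O ⟨b, hb⟩, σ ⟨b, hb⟩⟩,
        List.mem_map.2 ⟨⟨b, hb⟩, by simp, rfl⟩, hzO ⟨b, hb⟩, rfl⟩, ?_⟩
      exact hσ ⟨b, hb⟩ z (hzO ⟨b, hb⟩)
    | zero => exact ⟨0, Submodule.zero_mem _, by rw [map_zero, map_zero, zero_smul]⟩
    | add b b' _ _ ihb ihb' =>
      obtain ⟨β, hβ, h1⟩ := ihb
      obtain ⟨β', hβ', h2⟩ := ihb'
      exact ⟨β + β', Submodule.add_mem _ hβ hβ', by rw [map_add, h1, h2, map_add, add_smul]⟩
    | smul r b _ ihb =>
      obtain ⟨β, hβ, h1⟩ := ihb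
      exact ⟨X.presheaf.germ V z hzV r • β, Submodule.smul_mem _ _ hβ,
        by rw [map_smul, h1, smul_eq_mul, map_mul, mul_smul]⟩
  obtain ⟨β, hβ, hβe⟩ := key
  have hαβ : X.presheaf.germ V z hzV u • α = β := hinj (by
    refine Eq.trans ?_ hβe.symm
    rw [map_smul, hc, ← mul_smul, hua])
  obtain ⟨v, hv⟩ := hu
  rw [← hv] at hαβ
  have := Submodule.smul_mem S (↑v⁻¹ : X.presheaf.stalk z) (hαβ.symm ▸ hβ)
  rwa [← mul_smul, Units.inv_mul, one_smul] at this

end Groth.Agent.InjMod
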