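import Mathlib.CategoryTheory.Abelian.GrothendieckCategory.Subobject
import Mathlib.CategoryTheory.Abelian.GrothendieckCategory.EnoughInjectives
import Mathlib.CategoryTheory.Preadditive.Injective.Basic
import Mathlib.CategoryTheory.Adjunction.Limits
import Mathlib.Order.Zorn

/-!
# Injectivity is local: abstract form

An object of a Grothendieck abelian category is injective as soon as every partial extension of a map into it
can be enlarged; an exact localisation with monic counit provides such enlargements.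
-/

set_option autoImplicit false
set_option linter.style.haveILetI false
set_option backward.isDefEq.respectTransparency.types false

universe w v v' u u'

open CategoryTheory CategoryTheory.Limits

namespace Groth.Agent.InjMod

variable {C : Type u} [Category.{v} C] [Abelian C]

/-- Zorn's lemma for extensions of morphisms. -/
theorem injective_of_forall_extend [IsGrothendieckAbelian.{w} C] (F : C)
    (h : ∀ {A B : C} (i : A ⟶ B) [Mono i] (g : A ⟶ F), ¬ IsIso i →
      ∃ (A' : C) (a : A ⟶ A') (b : A' ⟶ B) (g' : A' ⟶ F),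
        Mono b ∧ a ≫ b = i ∧ ¬ IsIso a ∧ a ≫ g' = g) :
    Injective F := by
  refine ⟨fun {A B} g i _ => ?_⟩
  let P := Σ S : {S : Subobject B // Subobject.mk i ≤ S}, ((S.1 : C) ⟶ F)
  let S₀ := Subobject.mk i
  let g₀ : (S₀ : C) ⟶ F := (Subobject.underlyingIso i).hom ≫ g
  let ok : P → Prop := fun p => Subobject.ofLE S₀ p.1.1 p.1.2 ≫ p.2 = g₀
  let r : {p : P // ok p} → {p : P // ok p} → Prop := fun p q =>
    ∃ hle : p.1.1.1 ≤ q.1.1.1, Subobject.ofLE _ _ hle ≫ q.1.2 = p.1.2
  have hr : ∀ {a b c}, r a b → r b c → r a c := fun {a b c} hab hbc => by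
    obtain ⟨h1, e1⟩ := hab
    obtain ⟨h2, e2⟩ := hbc
    exact ⟨h1.trans h2, by rw [← Subobject.ofLE_comp_ofLE _ _ _ h1 h2, Category.assoc, e2, e1]⟩
  haveI : Std.Refl r := ⟨fun p => ⟨le_rfl, by simp⟩⟩
  obtain ⟨m, hm⟩ := exists_maximal_of_chains_bounded (r := r) (fun c hc => by
    rcases c.eq_empty_or_nonempty with rfl | hne
    · exact ⟨⟨⟨⟨S₀, le_rfl⟩, g₀⟩, show Subobject.ofLE S₀ S₀ le_rfl ≫ g₀ = g₀ by simp⟩, fun a ha => absurd ha id⟩
    obtain ⟨p₀, hp₀⟩ := hne
    let K : Set (Subobject B) := (fun p => p.1.1.1) '' c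
    haveI : Small.{w} K := small_subset K.subset_univ
    choose sel hsel using fun S : K => S.2
    have hsr : ∀ {p q}, p ∈ c → q ∈ c → ∀ hle : p.1.1.1 ≤ q.1.1.1,
        Subobject.ofLE _ _ hle ≫ q.1.2 = p.1.2 := by
      intro p q hp hq hle
      rcases hc.total hp hq with ⟨hle', e⟩ | ⟨hle', e⟩
      · exact e
      · rw [← e, ← Category.assoc, Subobject.ofLE_comp_ofLE, Subobject.ofLE_refl, Category.id_comp]
    let J := Shrink.{w} K
    let val : J → Subobject B := fun j => ((equivShrink K).symm j).1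
    letI : Preorder J := Preorder.lift val
    letI : SmallCategory J := Preorder.smallCategory J
    haveI : Nonempty J := ⟨equivShrink K ⟨_, p₀, hp₀, rfl⟩⟩
    haveI : IsDirected J (· ≤ ·) := ⟨fun a b => by
      obtain ⟨p, hp, hpa⟩ := ((equivShrink K).symm a).2
      obtain ⟨q, hq, hqb⟩ := ((equivShrink K).symm b).2
      rcases hc.total hp hq with ⟨hle, -⟩ | ⟨hle, -⟩
      · exact ⟨b, show val a ≤ val b from le_of_eq_of_le hpa.symm (le_of_le_of_eq hle hqb), le_refl _⟩
      · exact ⟨a, le_refl _, show val b ≤ val a from le_of_eq_of_le hqb.symm (le_of_le_of_eq hle hpa)⟩⟩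
    haveI : IsFiltered J := inferInstance
    let F' : J ⥤ MonoOver B := (show Monotone val from fun _ _ hab => hab).functor ⋙ Subobject.representative
    let D := F' ⋙ MonoOver.forget B ⋙ Over.forget B
    let π : colimit D ⟶ B := colimit.desc D (Cocone.mk B
      { app := fun j => (F'.obj j).obj.hom
        naturality := fun j j' f => by
          dsimp [D]
          exact (MonoOver.w (F'.map f)).trans (Category.comp_id _).symm })
    have hπ : ∀ j, colimit.ι D j ≫ π = (F'.obj j).obj.hom := fun j => colimit.ι_desc _ _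
    haveI : Mono π := IsGrothendieckAbelian.mono_of_isColimit_monoOver F' (colimit.isColimit D) π hπ
    let kp : J → {p : P // ok p} := fun j => sel ((equivShrink K).symm j)
    have hkp : ∀ j, kp j ∈ c ∧ (kp j).1.1.1 = val j := fun j => hsel _
    let gj : ∀ j, D.obj j ⟶ F := fun j =>
      (Subobject.ofLE (val j) (kp j).1.1.1 (hkp j).2.ge ≫ (kp j).1.2 :)
    have hD : ∀ {j j' : J} (f : j ⟶ j'), D.map f = Subobject.ofLE (val j) (val j') (leOfHom f : j ≤ j') := by
      intro j j' f
      apply (cancel_mono (val j').arrow).1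
      exact (MonoOver.w (F'.map f)).trans (Subobject.ofLE_arrow _).symm
    let G : colimit D ⟶ F := colimit.desc D (Cocone.mk F
      { app := gj
        naturality := fun j j' f => by
          simp only [Functor.const_obj_obj, Functor.const_obj_map, Category.comp_id, gj]
          have hl : val j ≤ val j' := (leOfHom f : j ≤ j')
          have e := hsr (hkp j).1 (hkp j').1 ((hkp j).2.le.trans (hl.trans (hkp j').2.ge))
          rw [hD f, ← e]
          exact (Subobject.ofLE_comp_ofLE_assoc _ _ _ hl (hkp j').2.ge _).trans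
            (Subobject.ofLE_comp_ofLE_assoc _ _ _ (hkp j).2.ge
              ((hkp j).2.le.trans (hl.trans (hkp j').2.ge)) _).symm })
    let ι' : ∀ j, (val j : C) ⟶ colimit D := fun j => colimit.ι D j
    have hι : ∀ j, ι' j ≫ π = (val j).arrow := fun j => hπ j
    have hιG : ∀ j, ι' j ≫ G = Subobject.ofLE (val j) (kp j).1.1.1 (hkp j).2.ge ≫ (kp j).1.2 :=
      fun j => colimit.ι_desc _ _
    have hle : ∀ p ∈ c, ∃ j, p.1.1.1 = val j := fun p hp =>
      ⟨equivShrink K ⟨_, p, hp, rfl⟩, by simp [val]⟩
    let U : Subobject B := Subobject.mk π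
    have hup : ∀ p ∈ c, ∃ h : p.1.1.1 ≤ U, Subobject.ofLE _ _ h ≫ (Subobject.underlyingIso π).hom ≫ G = p.1.2 := by
      intro p hp
      obtain ⟨j, hj⟩ := hle p hp
      have hjU : p.1.1.1 ≤ U := Subobject.le_mk_of_comm (Subobject.ofLE _ _ hj.le ≫ ι' j) (by
        rw [Category.assoc, hι, Subobject.ofLE_arrow])
      refine ⟨hjU, ?_⟩
      have key : Subobject.ofLE _ _ hjU ≫ (Subobject.underlyingIso π).hom = Subobject.ofLE _ _ hj.le ≫ ι' j := by
        rw [← cancel_mono π]
        simp [U, hι]
      rw [← Category.assoc, key, Category.assoc, hιG, ← Category.assoc, Subobject.ofLE_comp_ofLE]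
      exact hsr hp (hkp j).1 (hj.le.trans (hkp j).2.ge)
    obtain ⟨h₀U, e₀⟩ := hup p₀ hp₀
    refine ⟨⟨⟨⟨U, p₀.1.1.2.trans h₀U⟩, (Subobject.underlyingIso π).hom ≫ G⟩, ?_⟩, fun p hp => hup p hp⟩
    change Subobject.ofLE S₀ U _ ≫ _ = g₀
    rw [← Subobject.ofLE_comp_ofLE _ _ _ p₀.1.1.2 h₀U, Category.assoc, e₀]
    exact p₀.2) (fun {a b c} => hr)
  obtain ⟨⟨⟨S, hS⟩, f⟩, hf⟩ := m
  by_cases hST : IsIso S.arrow
  · refine ⟨inv S.arrow ≫ f, ?_⟩
    have : i ≫ inv S.arrow = (Subobject.underlyingIso i).inv ≫ Subobject.ofLE S₀ S hS := by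
      rw [← cancel_mono S.arrow]
      simp [S₀]
    rw [← Category.assoc, this, Category.assoc,
      show Subobject.ofLE S₀ S hS ≫ f = g₀ from hf, Iso.inv_hom_id_assoc]
  exfalso
  obtain ⟨A', a, b, g', hb, hab, ha, hg⟩ := h S.arrow f hST
  have hle : S ≤ Subobject.mk b := Subobject.le_mk_of_comm a hab
  have he : Subobject.ofLE S (Subobject.mk b) hle ≫ (Subobject.underlyingIso b).hom = a := by
    rw [← cancel_mono b]; simp [hab]
  let q : {p : P // ok p} := ⟨⟨⟨Subobject.mk b, hS.trans hle⟩, (Subobject.underlyingIso b).hom ≫ g'⟩, by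
    change Subobject.ofLE S₀ _ _ ≫ _ = g₀
    rw [← Subobject.ofLE_comp_ofLE _ _ _ hS hle, Category.assoc, ← Category.assoc (Subobject.ofLE S _ hle), he,
      hg]
    exact hf⟩
  obtain ⟨hqm, -⟩ := hm q ⟨hle, by rw [← Category.assoc, he, hg]⟩
  apply ha
  have hS' : S = Subobject.mk b := le_antisymm hle hqm
  haveI : IsIso (Subobject.ofLE S (Subobject.mk b) hle) := by
    refine ⟨Subobject.ofLE _ _ hqm, ?_, ?_⟩ <;> simp
  rw [← he]
  infer_instance

variable {D : Type u'} [Category.{v'} D] [Abelian D] {L : D ⥤ C} {R : C ⥤ D} (adj : L ⊣ R)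
  [PreservesFiniteLimits R] [PreservesFiniteColimits R]
  [PreservesFiniteLimits L] [PreservesFiniteColimits L]

include adj in
/-- One enlargement step. -/
theorem exists_extend_of_localization (hε : ∀ M, Mono (adj.counit.app M)) (F : C) [Injective (R.obj F)]
    {A B : C} (i : A ⟶ B) [Mono i] (g : A ⟶ F) (hi : ¬ IsIso (R.map i)) :
    ∃ (A' : C) (a : A ⟶ A') (b : A' ⟶ B) (g' : A' ⟶ F),
      Mono b ∧ a ≫ b = i ∧ ¬ IsIso a ∧ a ≫ g' = g := by
  haveI : R.Additive := Functor.additive_of_preserves_binary_products _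
  haveI : L.Additive := Functor.additive_of_preserves_binary_products _
  haveI := hε (cokernel i)
  haveI := hε B
  let S : ShortComplex C := ShortComplex.mk i (cokernel.π i) (cokernel.condition i)
  have hS : S.ShortExact :=
    { exact := S.exact_of_g_is_cokernel (cokernelIsCokernel i) }
  have hS' := (hS.map_of_exact R).map_of_exact L
  haveI := hS'.mono_f
  haveI : Mono (L.map (R.map i)) := inferInstance
  have hcond : ∀ s : PullbackCone i (adj.counit.app B), s.snd ≫ L.map (R.map (cokernel.π i)) = 0 := fun s => by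
    rw [← cancel_mono (adj.counit.app (cokernel i)), Category.assoc, zero_comp,
      show L.map (R.map (cokernel.π i)) ≫ adj.counit.app (cokernel i) =
        adj.counit.app B ≫ cokernel.π i from adj.counit.naturality _, ← Category.assoc, ← s.condition,
      Category.assoc, cokernel.condition, comp_zero]
  let lft : ∀ s : PullbackCone i (adj.counit.app B), s.pt ⟶ L.obj (R.obj A) := fun s =>
    hS'.exact.lift s.snd (hcond s)
  have hlft : ∀ s, lft s ≫ L.map (R.map i) = s.snd := fun s => hS'.exact.lift_f s.snd (hcond s)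
  have hnat : adj.counit.app A ≫ i = L.map (R.map i) ≫ adj.counit.app B := (adj.counit.naturality i).symm
  have hpb : IsPullback (adj.counit.app A) (L.map (R.map i)) i (adj.counit.app B) := by
    refine ⟨⟨hnat⟩, ⟨PullbackCone.IsLimit.mk _ lft (fun s => ?_) hlft (fun s m _ h₂ => ?_)⟩⟩
    · rw [← cancel_mono i, Category.assoc, hnat, ← Category.assoc, hlft, ← s.condition]
    · rw [← cancel_mono (L.map (R.map i)), h₂, hlft]
  let h' := Injective.factorThru (R.map g) (R.map i)
  let k : L.obj (R.obj B) ⟶ F := L.map h' ≫ adj.counit.app F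
  have hk : adj.counit.app A ≫ g = L.map (R.map i) ≫ k := by
    simp only [k, h']
    rw [← Category.assoc, ← L.map_comp, Injective.comp_factorThru]
    exact (adj.counit.naturality g).symm
  let P := IsPushout.of_hasPushout (adj.counit.app A) (L.map (R.map i))
  refine ⟨pushout (adj.counit.app A) (L.map (R.map i)), pushout.inl _ _, pushout.desc i (adj.counit.app B) hpb.w,
    pushout.desc g k hk, P.mono_of_isPullback_of_mono hpb _ (pushout.inl_desc _ _ _) (pushout.inr_desc _ _ _),
    pushout.inl_desc _ _ _, fun hiso => hi ?_, pushout.inl_desc _ _ _⟩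
  let l : L.obj (R.obj B) ⟶ A := pushout.inr _ _ ≫ inv (pushout.inl (adj.counit.app A) (L.map (R.map i)))
  have hl : l ≫ i = adj.counit.app B := by
    have e : inv (pushout.inl (adj.counit.app A) (L.map (R.map i))) ≫ i =
        pushout.desc i (adj.counit.app B) hpb.w := by
      rw [IsIso.inv_comp_eq, pushout.inl_desc]
    simp only [l]
    rw [Category.assoc, e]
    exact pushout.inr_desc _ _ _
  haveI : IsSplitEpi (R.map i) := IsSplitEpi.mk' ⟨adj.unit.app (R.obj B) ≫ R.map l, by
    rw [Category.assoc, ← R.map_comp, hl]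
    exact adj.right_triangle_components B⟩
  exact isIso_of_mono_of_isSplitEpi _

end Groth.Agent.InjMod
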