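import Groth.Agent.Lib.InjMod.Extend

/-!
# The extension step on an affine open
-/

set_option autoImplicit false
set_option linter.style.haveILetI false
set_option backward.isDefEq.respectTransparency false
set_option backward.isDefEq.respectTransparency.types false

universe u

open CategoryTheory CategoryTheory.Limits AlgebraicGeometry TopologicalSpace Opposite

namespace Groth.Agent.InjMod

open Groth.Agent M1 CurveCoh17 InjHullLib

variable {X : Scheme.{u}} {A B : X.Modules} (i : A ⟶ B) {U : X.Opens} (s : Γ(B, U))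

/-- Functions `a` with `a s` in the image of `i` at `y`. -/
def colonAt (y : X) (hy : y ∈ U) : Ideal Γ(X, U) where
  carrier := {a | ∃ α : A.presheaf.stalk y,
    stalkLin i y α = X.presheaf.germ U y hy a • (B.presheaf.germ U y hy s : B.presheaf.stalk y)}
  zero_mem' := ⟨0, by rw [map_zero, map_zero, zero_smul]⟩
  add_mem' := by
    rintro a b ⟨α, hα⟩ ⟨β, hβ⟩
    exact ⟨α + β, by rw [map_add, map_add, add_smul, hα, hβ]⟩
  smul_mem' := by
    rintro c a ⟨α, hα⟩
    exact ⟨X.presheaf.germ U y hy c • α, by rw [map_smul, hα, smul_eq_mul, map_mul, mul_smul]⟩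

theorem mem_colonAt {y : X} {hy : y ∈ U} {a : Γ(X, U)} :
    a ∈ colonAt i s y hy ↔ ∃ α : A.presheaf.stalk y,
      stalkLin i y α = X.presheaf.germ U y hy a • (B.presheaf.germ U y hy s : B.presheaf.stalk y) := Iff.rfl

/-- Membership in `colonAt` is witnessed on a neighbourhood. -/
theorem colonAt_witness {y : X} {hy : y ∈ U} {a : Γ(X, U)} (h : a ∈ colonAt i s y hy) :
    ∃ (V : X.Opens) (_ : y ∈ V) (hVU : V ≤ U) (σ : Γ(A, V)),
      ∀ (z : X) (hz : z ∈ V), stalkLin i z (A.presheaf.germ V z hz σ) =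
        X.presheaf.germ U z (hVU hz) a • (B.presheaf.germ U z (hVU hz) s : B.presheaf.stalk z) := by
  obtain ⟨α, hα⟩ := h
  obtain ⟨V, hV, σ, rfl⟩ := A.presheaf.exists_germ_eq α
  rw [stalkLin_apply, M1.germ_naturality, ← M1.germ_smul] at hα
  obtain ⟨W, hyW, i₁, i₂, he⟩ := B.presheaf.germ_eq y hV hy (i.app V σ) (a • s) hα
  refine ⟨W, hyW, i₂.le, mres A i₁.le σ, fun z hz => ?_⟩
  rw [germ_mres, stalkLin_apply, M1.germ_naturality, ← M1.germ_smul]
  have h1 := congrArg (B.presheaf.germ W z hz) he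
  rwa [TopCat.Presheaf.germ_res_apply, TopCat.Presheaf.germ_res_apply] at h1

variable {F : X.Modules} [Coh.IsQCoh F] (g : A ⟶ F)

/-- Extension on an affine open when the colon ideals are `⊤` or contained in their intersection. -/
theorem exists_extension (hi : Mono i) (hU : IsAffineOpen U) [IsNoetherianRing Γ(X, U)]
    (hinj : Module.Injective Γ(X, U) Γ(F, U))
    (hs : ∀ (y : X) (hy : y ∈ U), colonAt i s y hy = ⊤ ∨
      ∀ a ∈ colonAt i s y hy, ∀ (z : X) (hz : z ∈ U), a ∈ colonAt i s z hz) :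
    ∃ m : Γ(F, U), ∀ (y : X) (hy : y ∈ U) (α : A.presheaf.stalk y) (c : X.presheaf.stalk y),
      stalkLin i y α = c • (B.presheaf.germ U y hy s : B.presheaf.stalk y) →
      stalkLin g y α = c • (F.presheaf.germ U y hy m : F.presheaf.stalk y) := by
  classical
  have hinj_i : ∀ y, Function.Injective (stalkLin i y) := fun y => (M1.mono_iff_stalk i).1 hi y
  let Mset : Set X := {y | ∃ hy : y ∈ U, colonAt i s y hy = ⊤}
  -- the ideal of functions in every colon ideal, and the vanishing locus of the colon ideals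
  let I : Ideal Γ(X, U) := ⨅ (y : X) (hy : y ∈ U), colonAt i s y hy
  have hI : ∀ {a}, a ∈ I → ∀ (y : X) (hy : y ∈ U), a ∈ colonAt i s y hy := fun {a} ha y hy =>
    (Submodule.mem_iInf _).1 ((Submodule.mem_iInf _).1 ha y) hy
  -- an ideal cutting out the complement of `Mset`
  let J : Ideal Γ(X, U) :=
    { carrier := {r | ∀ (y : X) (hy : y ∈ U), y ∈ X.basicOpen r → colonAt i s y hy = ⊤}
      zero_mem' := fun y hy h => by simp at h
      add_mem' := fun {a b} ha hb y hy h => by
        rw [X.mem_basicOpen _ y hy, map_add] at h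
        rcases IsLocalRing.isUnit_or_isUnit_of_isUnit_add h with h | h
        · exact ha y hy ((X.mem_basicOpen a y hy).2 h)
        · exact hb y hy ((X.mem_basicOpen b y hy).2 h)
      smul_mem' := fun c a ha y hy h => by
        rw [X.mem_basicOpen _ y hy, smul_eq_mul, map_mul] at h
        exact ha y hy ((X.mem_basicOpen a y hy).2 (isUnit_of_mul_isUnit_right h)) }
  have hW : ∀ (y : X), y ∈ nonVanish J ↔ y ∈ Mset := by
    intro y
    constructor
    · intro h
      obtain ⟨r, hr, hyr⟩ := (mem_nonVanish_iff J).1 h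
      exact ⟨nonVanish_le J h, hr y _ hyr⟩
    · rintro ⟨hy, htop⟩
      obtain ⟨V, hyV, hVU, σ, hσ⟩ := colonAt_witness i s (show (1 : Γ(X, U)) ∈ colonAt i s y hy by
        rw [htop]; exact Submodule.mem_top)
      obtain ⟨r, hrV, hyr⟩ := hU.exists_basicOpen_le ⟨y, hyV⟩ hy
      refine (mem_nonVanish_iff J).2 ⟨r, fun z hz hzr => ?_, hyr⟩
      rw [Ideal.eq_top_iff_one]
      exact ⟨_, hσ z (hrV hzr)⟩
  -- values of `g` on multiples of `s`
  let φ : ∀ (y : X) (hy : y ∈ U) (a : Γ(X, U)), a ∈ colonAt i s y hy → F.presheaf.stalk y :=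
    fun y hy a ha => stalkLin g y ha.choose
  have hφ : ∀ {y : X} {hy : y ∈ U} {a : Γ(X, U)} (ha : a ∈ colonAt i s y hy) (α : A.presheaf.stalk y),
      stalkLin i y α = X.presheaf.germ U y hy a • (B.presheaf.germ U y hy s : B.presheaf.stalk y) →
      stalkLin g y α = φ y hy a ha := fun {y hy a} ha α h =>
    congrArg (stalkLin g y) (hinj_i y (h.trans ha.choose_spec.symm))
  have hlocal : ∀ {a : Γ(X, U)} {y : X} (hy : y ∈ U) (ha : a ∈ colonAt i s y hy),
      ∃ (V : X.Opens) (_ : y ∈ V) (hVU : V ≤ U) (n : Γ(F, V)), ∀ (z : X) (hz : z ∈ V),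
        ∃ ha' : a ∈ colonAt i s z (hVU hz), F.presheaf.germ V z hz n = φ z (hVU hz) a ha' := by
    intro a y hy ha
    obtain ⟨V, hyV, hVU, σ, hσ⟩ := colonAt_witness i s ha
    refine ⟨V, hyV, hVU, g.app V σ, fun z hz => ⟨⟨_, hσ z hz⟩, ?_⟩⟩
    rw [← hφ ⟨_, hσ z hz⟩ _ (hσ z hz), stalkLin_apply, M1.germ_naturality]
  -- first extend from the open where everything is in the image
  have hone : ∀ {y : X} (h : y ∈ nonVanish J), (1 : Γ(X, U)) ∈ colonAt i s y (nonVanish_le J h) := fun {y} h => by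
    obtain ⟨_, htop⟩ := (hW y).1 h
    rw [htop]; exact Submodule.mem_top
  obtain ⟨τ, hτ, -⟩ := RH26.exists_section_of_germs F (nonVanish J)
    (fun y hy => φ y (nonVanish_le J hy) 1 (hone hy)) fun x hx => by
      obtain ⟨V, hxV, hVU, n, hn⟩ := hlocal (nonVanish_le J hx) (hone hx)
      refine ⟨V ⊓ nonVanish J, ⟨hxV, hx⟩, inf_le_right, mres F inf_le_left n, fun z hz => ?_⟩
      obtain ⟨ha', he⟩ := hn z hz.1
      rw [germ_mres]
      exact he
  obtain ⟨m₀, hm₀⟩ := surjective_mres_nonVanish F hU J hinj τ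
  -- the defect on `I`
  have hδ : ∀ a : I, ∃ d : Γ(F, U), ∀ (y : X) (hy : y ∈ U),
      F.presheaf.germ U y hy d = φ y hy a (hI a.2 y hy) -
        X.presheaf.germ U y hy a • (F.presheaf.germ U y hy m₀ : F.presheaf.stalk y) := by
    intro a
    obtain ⟨t, ht, -⟩ := RH26.exists_section_of_germs F U (fun y hy => φ y hy a (hI a.2 y hy)) fun x hx => by
      obtain ⟨V, hxV, hVU, n, hn⟩ := hlocal hx (hI a.2 x hx)
      refine ⟨V, hxV, hVU, n, fun z hz => ?_⟩
      obtain ⟨ha', he⟩ := hn z hz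
      exact he
    exact ⟨t - a.1 • m₀, fun y hy => by rw [map_sub, ht, M1.germ_smul]⟩
  choose d hd using hδ
  have hdT : ∀ a, d a ∈ powTors J Γ(F, U) := fun a => by
    rw [← mres_eq_zero_iff F hU J]
    refine M1.section_ext _ _ fun y hy => ?_
    have hyU := nonVanish_le J hy
    rw [germ_mres, hd, map_zero, sub_eq_zero, show F.presheaf.germ U y hyU m₀ =
      φ y hyU 1 (hone hy) by rw [← germ_mres F (nonVanish_le J) hy, hm₀, hτ]]
    refine (hφ (hI a.2 y hyU) (X.presheaf.germ U y hyU a.1 • (hone hy).choose) ?_).symm.trans (map_smul _ _ _)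
    rw [map_smul, (hone hy).choose_spec, map_one, one_smul]
  let δ : I →ₗ[Γ(X, U)] powTors J Γ(F, U) :=
    { toFun := fun a => ⟨d a, hdT a⟩
      map_add' := fun a b => Subtype.ext <| M1.section_ext _ _ fun y hy => by
        simp only [Submodule.coe_add, map_add, hd]
        rw [add_smul, ← hφ _ ((hI a.2 y hy).choose + (hI b.2 y hy).choose) (by
          rw [map_add, (hI a.2 y hy).choose_spec, (hI b.2 y hy).choose_spec, ← add_smul, ← map_add]), map_add]
        exact (add_sub_add_comm _ _ _ _)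
      map_smul' := fun c a => Subtype.ext <| M1.section_ext _ _ fun y hy => by
        simp only [RingHom.id_apply, SetLike.val_smul, hd, M1.germ_smul, smul_eq_mul, map_mul]
        rw [← hφ _ (X.presheaf.germ U y hy c • (hI a.2 y hy).choose) (by
          rw [map_smul, (hI a.2 y hy).choose_spec, ← mul_smul, ← map_mul]), map_smul, mul_smul, smul_sub] }
  obtain ⟨e, he⟩ := (injective_powTors hinj J).out I.subtype I.injective_subtype δ
  let z : Γ(F, U) := (e 1 : powTors J Γ(F, U))
  refine ⟨m₀ + z, fun y hy α c hα => ?_⟩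
  obtain ⟨a, v, hv, hva⟩ := exists_eq_mul_germ hU hy c
  have hαa : stalkLin i y (X.presheaf.germ U y hy v • α) =
      X.presheaf.germ U y hy a • (B.presheaf.germ U y hy s : B.presheaf.stalk y) := by
    rw [map_smul, hα, ← mul_smul, hva]
  have ha : a ∈ colonAt i s y hy := ⟨_, hαa⟩
  refine hv.smul_left_cancel.1 ?_
  rw [← map_smul, ← mul_smul, hva, hφ ha _ hαa]
  rcases hs y hy with htop | hle
  · have hyJ : y ∈ nonVanish J := (hW y).2 ⟨hy, htop⟩
    have hz : F.presheaf.germ U y hy z = 0 := by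
      rw [← germ_mres F (nonVanish_le J) hyJ, (mres_eq_zero_iff F hU J z).2 (e 1).2, map_zero]
    have hm : F.presheaf.germ U y hy m₀ = φ y hy 1 (hone hyJ) := by
      rw [← germ_mres F (nonVanish_le J) hyJ, hm₀, hτ]
    rw [map_add, hz, add_zero, hm]
    refine (hφ ha (X.presheaf.germ U y hy a • (hone hyJ).choose) ?_).symm.trans (map_smul _ _ _)
    rw [map_smul, (hone hyJ).choose_spec, map_one, one_smul]
  · have haI : a ∈ I := (Submodule.mem_iInf _).2 fun w => (Submodule.mem_iInf _).2 fun hw => hle a ha w hw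
    have h1 := congrArg (fun t : powTors J Γ(F, U) => F.presheaf.germ U y hy (t : Γ(F, U))) (he ⟨a, haI⟩)
    simp only [Submodule.subtype_apply] at h1
    rw [show e a = a • e 1 by rw [← map_smul, smul_eq_mul, mul_one], SetLike.val_smul, M1.germ_smul] at h1
    rw [map_add, smul_add, h1]
    simp only [δ, LinearMap.coe_mk, AddHom.coe_mk, hd]
    abel

end Groth.Agent.InjMod
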